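import Groth.Agent.SerreCd.Liftable
import Groth.Agent.EtDvrCd.Residue
import Groth.Agent.EtDvrCd.LowerCore

/-!
# Vanishing of the product of two periodicity classes of quadratic extensions
-/

set_option autoImplicit false
set_option linter.style.haveILetI false
set_option linter.unusedSectionVars false
set_option backward.isDefEq.respectTransparency false
set_option backward.isDefEq.respectTransparency.types false

universe u

open CategoryTheory CategoryTheory.Limits AlgebraicGeometry Opposite Abelian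

noncomputable section

namespace Groth.Agent.SerreCd

open CurveCd GalCd5 EtDvrCd

variable {X : Scheme.{u}} {V W : X.Etale} {g : V ⟶ W} {σ : V ⟶ V} {l : ℕ} (hc : IsCyclicCover g σ l)

theorem tr_fmap_self : hc.tr ≫ fmap g = l • 𝟙 (free W) := by
  haveI := epi_fmap g hc.surj
  have h : ∀ i, powMor σ i ≫ fmap g = fmap g := fun i => by
    induction i with
    | zero => exact Category.id_comp _
    | succ i hi => rw [powMor, Category.assoc, hi, ← fmap_comp, hc.comp]
  rw [← cancel_epi (fmap g), ← Category.assoc, hc.fmap_tr, sumPow, Preadditive.sum_comp,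
    Finset.sum_congr rfl (fun i _ => h i), Finset.sum_const, Finset.card_range, Preadditive.comp_nsmul,
    Category.comp_id]

/-- the reduction of the cokernel of the transfer modulo the degree -/
def redT : cokernel hc.tr ⟶ cokernel (l • 𝟙 (free W)) :=
  cokernel.desc _ (fmap g ≫ cokernel.π _) (by
    rw [← Category.assoc, tr_fmap_self hc, cokernel.condition])

theorem π_redT : cokernel.π hc.tr ≫ redT hc = fmap g ≫ cokernel.π (l • 𝟙 (free W)) := cokernel.π_desc _ _ _

theorem extClass_redT [Mono (l • 𝟙 (free W))] :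
    ∃ β : Ext (cokernel (l • 𝟙 (free W))) (free W) 1,
      (shortExact_seqT hc).extClass = (Ext.mk₀ (redT hc)).comp β (zero_add 1) := by
  let T : ShortComplex (EtCoh.Ab X) :=
    ShortComplex.mk (l • 𝟙 (free W)) (cokernel.π _) (cokernel.condition _)
  have hT : T.ShortExact :=
    { exact := ShortComplex.exact_of_g_is_cokernel _ (cokernelIsCokernel _)
      mono_f := inferInstanceAs (Mono (l • 𝟙 (free W)))
      epi_g := inferInstanceAs (Epi (cokernel.π (l • 𝟙 (free W)))) }
  let φ : seqT hc ⟶ T :=
    { τ₁ := 𝟙 _, τ₂ := fmap g, τ₃ := redT hc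
      comm₁₂ := (Category.id_comp _).trans (tr_fmap_self hc).symm
      comm₂₃ := (π_redT hc).symm }
  refine ⟨hT.extClass, ?_⟩
  have h := ShortComplex.ShortExact.extClass_naturality (shortExact_seqT hc) hT φ
  exact (Ext.comp_mk₀_id _).symm.trans h

section Field

variable {E L L' : Type u} [Field E] [Field L] [Field L'] [Algebra E L] [Algebra E L'] [FiniteDimensional E L]
  [FiniteDimensional E L'] [IsGalois E L] [IsGalois E L']
  [Etale (extHom (base E) L)] [Etale (extHom (base E) L')]

theorem val_neg_one_of_sq {e : Spec (CommRingCat.of E) ⟶ Spec (CommRingCat.of E)} [Etale e]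
    (φ : free (pt e) ⟶ EtCoh.Gm _) (h : 2 • φ = 0) (h0 : φ ≠ 0) : (val φ : E) = -1 := by
  have h1 : (val φ : E) * val φ = 1 := by
    rw [← Units.val_mul, ← val_add, ← two_nsmul, h, val_zero, Units.val_one]
  rcases mul_self_eq_one_iff.1 h1 with h1 | h1
  · exact absurd (val_injective (Units.ext (h1.trans (by rw [val_zero, Units.val_one])))) h0
  · exact h1

/-- the product of the periodicity classes of two quadratic extensions `E(√-1)` and `E(√b)` vanishes when
`b = 1 + x²` -/
theorem perComp_perComp_eq_zero (h2 : (2 : E) ≠ 0) {σ : Gal(L/E)} (hσ : ∀ t, t ∈ Subgroup.zpowers σ)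
    (hoσ : orderOf σ = 2) {σ' : Gal(L'/E)} (hσ' : ∀ t, t ∈ Subgroup.zpowers σ') (hoσ' : orderOf σ' = 2)
    {i : L} (hi : i * i = -1) (hσi : σ i = -i) (x₁ : E) (hb0 : 1 + x₁ * x₁ ≠ 0) {s : L'}
    (hs : s * s = algebraMap E L' (1 + x₁ * x₁)) (hσs : σ' s = -s)
    {F : EtCoh.Ab (Spec (CommRingCat.of E))} {q p r : ℕ} (hp : 2 + q = p) (hr : 2 + p = r)
    (x : Ext (free (EtCoh.top (Spec (CommRingCat.of E)))) F q) :
    perComp (isCyclicCover_base σ hσ) hr (perComp (isCyclicCover_base σ' hσ') hp x) = 0 := by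
  let S := Spec (CommRingCat.of E)
  let hc := isCyclicCover_base σ hσ
  let hc' := isCyclicCover_base σ' hσ'
  haveI : Epi (EtCoh.powMap S 2) := S0108.result S 2 (natCast_isUnit_sections (by exact_mod_cast h2))
  have hlε : orderOf σ' • 𝟙 (free (EtCoh.top S)) =
      (topIso (X := S)).hom ≫ (2 • 𝟙 (EtCoh.const S ℤ)) ≫ (topIso (X := S)).inv := by
    rw [hoσ', Preadditive.nsmul_comp, Preadditive.comp_nsmul, Category.id_comp, Iso.hom_inv_id]
  haveI := mono_nsmul_const S 2
  haveI : Mono (orderOf σ' • 𝟙 (free (EtCoh.top S))) := by rw [hlε]; infer_instance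
  -- the isomorphism of the reduction with the square roots of unity
  obtain ⟨e1⟩ := nonempty_cokernel_iso S 2
  obtain ⟨emu⟩ : Nonempty (EtCoh.mu S 2 ≅ EtCoh.const S (ZMod 2)) :=
    EtLC12.MuConst.nonempty_mu_iso_const (natCast_isUnit_sections (by exact_mod_cast h2)) (-1)
      (by rw [Polynomial.cyclotomic_two]; simp)
  let θ : cokernel (orderOf σ' • 𝟙 (free (EtCoh.top S))) ≅ EtCoh.mu S 2 :=
    cokernel.mapIso _ (2 • 𝟙 (EtCoh.const S ℤ)) (topIso (X := S)) (topIso (X := S)) (by
      rw [hlε, Category.assoc, Category.assoc, Iso.inv_hom_id, Category.comp_id]) ≪≫ e1 ≪≫ emu.symm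
  let neg : free (EtCoh.top S) ⟶ EtCoh.Gm S := cokernel.π _ ≫ θ.hom ≫ kernel.ι (EtCoh.powMap S 2)
  have hneg2 : 2 • neg = 0 := by
    have h := kernel.condition (EtCoh.powMap S 2)
    rw [EtCoh.powMap, Preadditive.comp_nsmul, Category.comp_id] at h
    show 2 • (cokernel.π _ ≫ θ.hom ≫ kernel.ι (EtCoh.powMap S 2)) = 0
    rw [← Preadditive.comp_nsmul, ← Preadditive.comp_nsmul]
    exact (congrArg (fun t => cokernel.π _ ≫ θ.hom ≫ t) h).trans (by simp)
  obtain ⟨mone, hmone⟩ := val_surjective (base E) (Units.mk0 (-1 : E) (neg_ne_zero.2 one_ne_zero))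
  have hmone' : mone ≫ EtCoh.powMap S 2 = 0 := val_injective (Units.ext (by
    rw [val_powMap, Units.val_pow_eq_pow_val, hmone, val_zero, Units.val_mk0, Units.val_one]; ring))
  have hneg : (val (e := base E) neg : E) = -1 := by
    refine val_neg_one_of_sq neg hneg2 fun h0 => ?_
    have h1 : (θ.hom ≫ kernel.ι (EtCoh.powMap S 2) : _ ⟶ EtCoh.Gm S) = 0 :=
      (cancel_epi (cokernel.π _)).1 (h0.trans comp_zero.symm)
    have h3 : kernel.ι (EtCoh.powMap S 2) = 0 := (cancel_epi θ.hom).1 (h1.trans comp_zero.symm)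
    have h4 : mone = 0 := by
      rw [← kernel.lift_ι (EtCoh.powMap S 2) mone hmone', h3, comp_zero]
    have h5 := congrArg Units.val hmone
    rw [h4, val_zero, Units.val_one, Units.val_mk0] at h5
    exact h2 (by linear_combination h5)
  -- the section with value `1 + x²` as a norm from `L`
  have hw0 : (1 : L) + algebraMap E L x₁ * i ≠ 0 := fun h => by
    apply hb0
    apply (algebraMap E L).injective
    rw [map_add, map_mul, map_one, map_zero]
    linear_combination (1 - algebraMap E L x₁ * i) * h + (algebraMap E L x₁) ^ 2 * hi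
  obtain ⟨w, hw⟩ := val_surjective (extHom (base E) L) (Units.mk0 _ hw0)
  let ψ : free (EtCoh.top S) ⟶ EtCoh.Gm S := hc.tr ≫ w
  have hψ : (val (e := base E) ψ : E) = 1 + x₁ * x₁ := by
    apply (algebraMap E L).injective
    have h1 : fmap (covMap (L := L) (base E)) ≫ ψ = sumPow (autMap (base E) σ) (orderOf σ) ≫ w :=
      (Category.assoc _ _ _).symm.trans (congrArg (· ≫ w) hc.fmap_tr)
    have h3 : (val (fmap (covMap (L := L) (base E)) ≫ ψ) : L) = algebraMap E L (val (e := base E) ψ : E) := by
      rw [covMap, val_fmap]; rfl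
    rw [← h3, h1, sumPow, Preadditive.sum_comp, val_sum, hoσ, Units.coe_prod, Finset.prod_range_succ,
      Finset.prod_range_one, val_powMor, val_powMor, hw, Units.val_mk0, pow_zero, pow_one, AlgEquiv.one_apply,
      map_add, map_mul, map_one, AlgEquiv.commutes, hσi, map_add, map_mul, map_one]
    linear_combination (-(algebraMap E L x₁) ^ 2) * hi
  -- the square root on `L'`
  have hs0 : s ≠ 0 := fun h => hb0 ((algebraMap E L').injective (by rw [← hs, h, mul_zero, map_zero]))
  obtain ⟨ρ, hρ⟩ := val_surjective (extHom (base E) L') (Units.mk0 s hs0)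
  let φ : seqC hc' ⟶ SK S 2 :=
    { τ₁ := redT hc' ≫ θ.hom, τ₂ := ρ, τ₃ := ψ
      comm₁₂ := by
        show (redT hc' ≫ θ.hom) ≫ kernel.ι (EtCoh.powMap S 2) = diff hc' ≫ ρ
        rw [← cancel_epi (cokernel.π hc'.tr)]
        simp only [← Category.assoc]
        rw [π_redT, π_diff, Category.assoc, Category.assoc]
        refine val_injective (e := extHom (base E) L') (Units.ext ?_)
        have h1 : fmap (autMap (base E) σ') ≫ ρ =
            ((fmap (autMap (base E) σ') - 𝟙 _) ≫ ρ) + ρ := by
          rw [Preadditive.sub_comp, Category.id_comp, sub_add_cancel]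
        have h2 := congrArg (fun t => (val t : L')) h1
        simp only [val_add, Units.val_mul] at h2
        rw [autMap, val_fmap, hρ] at h2
        refine mul_right_cancel₀ hs0 (Eq.trans ?_ h2)
        rw [show (val (fmap (covMap (L := L') (base E)) ≫ neg) : L') = algebraMap E L' (val (e := base E) neg : E) by
          rw [covMap, val_fmap]; rfl, hneg, map_neg, map_one]
        show -1 * s = σ' s
        rw [hσs, neg_one_mul]
      comm₂₃ := by
        show ρ ≫ EtCoh.powMap S 2 = fmap (covMap (L := L') (base E)) ≫ ψ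
        refine val_injective (e := extHom (base E) L') (Units.ext ?_)
        rw [val_powMap, Units.val_pow_eq_pow_val, hρ, Units.val_mk0,
          show (val (fmap (covMap (L := L') (base E)) ≫ ψ) : L') = algebraMap E L' (val (e := base E) ψ : E) by
            rw [covMap, val_fmap]; rfl, hψ, sq, hs] }
  have hκ := ShortComplex.ShortExact.extClass_naturality (shortExact_seqC hc') (shortExact_SK S 2) φ
  obtain ⟨β, hβ⟩ := extClass_redT hc'
  -- the transfer kills the Kummer class
  have hzero : (shortExact_seqT hc).extClass.comp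
      ((shortExact_seqC hc').extClass.comp (Ext.mk₀ (redT hc')) (add_zero 1)) (rfl : 1 + 1 = 2) = 0 := by
    have h1 : (shortExact_seqC hc').extClass.comp (Ext.mk₀ (redT hc')) (add_zero 1) =
        ((Ext.mk₀ hc.tr).comp ((Ext.mk₀ w).comp ((shortExact_SK S 2).extClass.comp (Ext.mk₀ θ.inv) (add_zero 1))
          (zero_add 1)) (zero_add 1)) := by
      have h2 := congrArg (fun t => t.comp (Ext.mk₀ θ.inv) (add_zero 1)) hκ
      rw [Ext.comp_assoc_of_second_deg_zero, Ext.mk₀_comp_mk₀] at h2
      change (shortExact_seqC hc').extClass.comp (Ext.mk₀ ((redT hc' ≫ θ.hom) ≫ θ.inv)) _ = _ at h2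
      rw [Category.assoc, Iso.hom_inv_id, Category.comp_id] at h2
      rw [h2, Ext.comp_assoc_of_third_deg_zero]
      exact (Ext.mk₀_comp_mk₀_assoc hc.tr w _).symm
    rw [h1]
    exact (shortExact_seqT hc).extClass_comp_assoc _
  show perComp hc hr (perComp hc' hp x) = 0
  rw [perComp_eq hc, perComp_eq hc', hβ]
  generalize hy : (((Ext.mk₀ (redT hc')).comp β (zero_add 1)).comp x (rfl : 1 + q = 1 + q)) = y
  rw [Ext.comp_assoc (Ext.mk₀ (redT hc')) β x (zero_add 1) rfl (by omega)] at hy
  rw [← hy, ← Ext.comp_assoc_of_second_deg_zero]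
  generalize β.comp x (rfl : 1 + q = 1 + q) = z
  generalize hk : (shortExact_seqC hc').extClass.comp (Ext.mk₀ (redT hc')) (add_zero 1) = κ at hzero ⊢
  have hT : (shortExact_seqT hc).extClass.comp (κ.comp z (show 1 + (1 + q) = p by omega))
      (show 1 + p = 1 + p from rfl) = 0 := by
    rw [← Ext.comp_assoc _ _ _ (rfl : 1 + 1 = 2) _ (by omega), hzero, Ext.zero_comp]
  erw [hT, Ext.comp_zero]

end Field

end Groth.Agent.SerreCd
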