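import Mathlib.Algebra.Order.Ring.Ordering.Basic
import Mathlib.Algebra.Ring.SumsOfSquares
import Mathlib.Order.Zorn
import Mathlib.Tactic

/-!
# Fields in which `-1` is not a sum of squares can be ordered
-/

set_option autoImplicit false

universe u

namespace Groth.Agent.SerreCd

variable {K : Type u} [Field K]

/-- enlarging a preordering by the negative of an element outside it -/
def adjoinNeg (P : RingPreordering K) {a : K} (ha : a ∉ P) : RingPreordering K :=
  RingPreordering.mk' {z | ∃ x ∈ P, ∃ y ∈ P, z = x - a * y}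
    (by
      rintro _ _ ⟨x, hx, y, hy, rfl⟩ ⟨x', hx', y', hy', rfl⟩
      exact ⟨x + x', add_mem hx hx', y + y', add_mem hy hy', by ring⟩)
    (by
      rintro _ _ ⟨x, hx, y, hy, rfl⟩ ⟨x', hx', y', hy', rfl⟩
      exact ⟨x * x' + a * a * (y * y'), add_mem (mul_mem hx hx') (mul_mem (P.mul_self_mem a) (mul_mem hy hy')),
        x * y' + y * x', add_mem (mul_mem hx hy') (mul_mem hy hx'), by ring⟩)
    (fun x => ⟨x * x, P.mul_self_mem x, 0, zero_mem P, by ring⟩)
    (by
      rintro ⟨x, hx, y, hy, h⟩
      rcases eq_or_ne y 0 with rfl | hy0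
      · exact RingPreordering.neg_one_notMem P (by rw [h, mul_zero, sub_zero]; exact hx)
      · apply ha
        have h1 : a = (1 + x) * y⁻¹ := by
          field_simp
          linear_combination h
        rw [h1]
        exact mul_mem (add_mem (one_mem P) hx) (RingPreordering.inv_mem hy))

theorem exists_mem_or_neg_mem (P₀ : RingPreordering K) :
    ∃ P : RingPreordering K, ∀ a : K, a ∈ P ∨ -a ∈ P := by
  haveI : Nonempty (RingPreordering K) := ⟨P₀⟩
  obtain ⟨P, hP⟩ := zorn_le_nonempty (α := RingPreordering K) fun c hc ⟨P₁, hP₁⟩ => by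
    refine ⟨RingPreordering.mk' (⋃ P ∈ c, (P : Set K)) ?_ ?_ ?_ ?_, ?_⟩
    · intro x y hx hy
      simp only [Set.mem_iUnion, SetLike.mem_coe] at hx hy ⊢
      obtain ⟨P, hP, hx⟩ := hx
      obtain ⟨Q, hQ, hy⟩ := hy
      rcases hc.total hP hQ with h | h
      · exact ⟨Q, hQ, add_mem (h hx) hy⟩
      · exact ⟨P, hP, add_mem hx (h hy)⟩
    · intro x y hx hy
      simp only [Set.mem_iUnion, SetLike.mem_coe] at hx hy ⊢
      obtain ⟨P, hP, hx⟩ := hx
      obtain ⟨Q, hQ, hy⟩ := hy
      rcases hc.total hP hQ with h | h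
      · exact ⟨Q, hQ, mul_mem (h hx) hy⟩
      · exact ⟨P, hP, mul_mem hx (h hy)⟩
    · intro x
      simp only [Set.mem_iUnion, SetLike.mem_coe]
      exact ⟨P₁, hP₁, P₁.mul_self_mem x⟩
    · simp only [Set.mem_iUnion, SetLike.mem_coe, not_exists]
      exact fun P _ => RingPreordering.neg_one_notMem P
    · intro P hP x hx
      show x ∈ ⋃ P ∈ c, (P : Set K)
      simp only [Set.mem_iUnion, SetLike.mem_coe]
      exact ⟨P, hP, hx⟩
  refine ⟨P, fun a => or_iff_not_imp_left.2 fun ha => ?_⟩
  have h : P ≤ adjoinNeg P ha := fun x hx => ⟨x, hx, 0, zero_mem P, by ring⟩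
  exact hP h ⟨0, zero_mem P, 1, one_mem P, by ring⟩

/-- a field in which `-1` is not a sum of squares can be ordered -/
theorem exists_linearOrder (h : ¬ IsSumSq (-1 : K)) :
    ∃ _ : LinearOrder K, IsStrictOrderedRing K := by
  classical
  obtain ⟨P, hP⟩ := exists_mem_or_neg_mem (RingPreordering.mk' {x : K | IsSumSq x}
    (fun hx hy => IsSumSq.add hx hy) (fun hx hy => IsSumSq.mul hx hy) (fun x => IsSumSq.mul_self x) h)
  let _inst : LinearOrder K :=
    { le := fun a b => b - a ∈ P
      le_refl := fun a => by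
        show a - a ∈ P
        rw [sub_self]; exact zero_mem P
      le_trans := fun a b c (hab : b - a ∈ P) (hbc : c - b ∈ P) => by
        show c - a ∈ P
        rw [← sub_add_sub_cancel c b a]
        exact add_mem hbc hab
      le_antisymm := fun a b (hab : b - a ∈ P) (hba : a - b ∈ P) =>
        (sub_eq_zero.1 (RingPreordering.eq_zero_of_mem_of_neg_mem hba (by rwa [neg_sub])))
      le_total := fun a b => (hP (b - a)).imp_right fun h => by
        show a - b ∈ P
        rwa [← neg_sub]
      toDecidableLE := Classical.decRel _ }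
  refine ⟨_inst, ?_⟩
  haveI : IsOrderedAddMonoid K :=
    { add_le_add_left := fun a b (hab : b - a ∈ P) c => by
        show b + c - (a + c) ∈ P
        rwa [add_sub_add_right_eq_sub] }
  haveI : ZeroLEOneClass K := ⟨show (1 : K) - 0 ∈ P by rw [sub_zero]; exact one_mem P⟩
  exact IsStrictOrderedRing.of_mul_pos fun a b ha hb => by
    refine lt_of_le_of_ne (show a * b - 0 ∈ P from ?_) (mul_ne_zero ha.ne' hb.ne').symm
    rw [sub_zero]
    have h1 : a - 0 ∈ P := ha.le
    have h2 : b - 0 ∈ P := hb.le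
    rw [sub_zero] at h1 h2
    exact mul_mem h1 h2

end Groth.Agent.SerreCd
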