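import Groth.Agent.SerreCd.Kummer
import Groth.Agent.SerreCd.Cup
import Groth.Agent.SerreCd.Real
import Groth.Agent.FieldCd.Tsen
import Mathlib.FieldTheory.Normal.Closure
import Mathlib.FieldTheory.SeparableClosure

/-!
# Serre's theorem on the cohomological dimension of finite extensions of fields
-/

set_option autoImplicit false
set_option linter.style.haveILetI false
set_option linter.unusedSectionVars false
set_option backward.isDefEq.respectTransparency false
set_option backward.isDefEq.respectTransparency.types false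

universe u

open Polynomial IntermediateField
open CategoryTheory AlgebraicGeometry

noncomputable section

namespace Groth.Agent.SerreCd

open FieldCd CurveCd

/-- the Kummer extension of a non-power -/
theorem exists_kummer {ℓ : ℕ} (hℓ : ℓ.Prime) {E : Type u} [Field E] {ζ : E} (hζ : IsPrimitiveRoot ζ ℓ) {a : E}
    (ha : ∀ b : E, b ^ ℓ ≠ a) :
    ∃ (M : Type u) (_ : Field M) (_ : Algebra E M) (_ : FiniteDimensional E M) (_ : IsGalois E M) (γ : M),
      γ ^ ℓ = algebraMap E M a ∧ Module.finrank E M = ℓ := by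
  have hK : (primitiveRoots ℓ E).Nonempty := ⟨ζ, (mem_primitiveRoots hℓ.pos).2 hζ⟩
  have hirr : Irreducible (X ^ ℓ - C a) := X_pow_sub_C_irreducible_of_prime hℓ ha
  haveI : NeZero ℓ := ⟨hℓ.ne_zero⟩
  have hroot : ((X ^ ℓ - C a).map (algebraMap E (X ^ ℓ - C a).SplittingField)).degree ≠ 0 := by
    rw [Polynomial.map_sub, Polynomial.map_pow, Polynomial.map_C, Polynomial.map_X, degree_X_pow_sub_C hℓ.pos]
    exact_mod_cast hℓ.ne_zero
  obtain ⟨γ, hγ⟩ := (Polynomial.SplittingField.splits (X ^ ℓ - C a)).exists_eval_eq_zero hroot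
  rw [Polynomial.map_sub, Polynomial.map_pow, Polynomial.map_C, Polynomial.map_X, eval_sub, eval_pow, eval_X,
    eval_C, sub_eq_zero] at hγ
  exact ⟨_, inferInstance, inferInstance, inferInstance, isGalois_of_isSplittingField_X_pow_sub_C hK hirr _, γ, hγ,
    finrank_of_isSplittingField_X_pow_sub_C hK hirr _⟩

/-- a Kummer extension does not raise the dimension of fields containing a root -/
theorem vd_of_root {ℓ : ℕ} (hℓ : ℓ.Prime) {E L : Type u} [Field E] [Field L] [Algebra E L] [FiniteDimensional E L]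
    {ζ : E} (hζ : IsPrimitiveRoot ζ ℓ) (hL : Module.finrank E L = ℓ) {a : E} {α : L}
    (hα : α ^ ℓ = algebraMap E L a) (htop : E⟮α⟯ = ⊤) (M : Type u) [Field M] [Algebra E M]
    [Algebra.IsAlgebraic E M] {γ : M} (hγ : γ ^ ℓ = algebraMap E M a) {d : ℕ} (h : Vd ℓ L d) : Vd ℓ M d := by
  have hK : (primitiveRoots (Module.finrank E L) E).Nonempty :=
    ⟨ζ, (mem_primitiveRoots Module.finrank_pos).2 (hL.symm ▸ hζ)⟩
  haveI := isSplittingField_X_pow_sub_C_of_root_adjoin_eq_top hK (a := a) (α := α) (by rw [hL]; exact hα) htop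
  have hsplit : (Polynomial.map (algebraMap E M) (X ^ Module.finrank E L - C a)).Splits := by
    rw [Polynomial.map_sub, Polynomial.map_pow, Polynomial.map_C, Polynomial.map_X, hL]
    exact X_pow_sub_C_splits_of_isPrimitiveRoot (hζ.map_of_injective (algebraMap E M).injective) hγ
  let f : L →ₐ[E] M := IsSplittingField.lift L _ hsplit
  letI : Algebra L M := f.toRingHom.toAlgebra
  haveI : IsScalarTower E L M := .of_algebraMap_eq fun x => (f.commutes x).symm
  haveI : Algebra.IsAlgebraic L M := Algebra.IsAlgebraic.tower_top (K := E) L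
  exact vd_of_isAlgebraic h

theorem isPrimitiveRoot_neg_one {E : Type u} [Field E] (h2 : (2 : E) ≠ 0) : IsPrimitiveRoot (-1 : E) 2 := by
  refine IsPrimitiveRoot.mk_of_lt _ (by norm_num) neg_one_sq fun l h0 hl => ?_
  obtain rfl : l = 1 := by omega
  rw [pow_one]
  exact fun h => h2 (by linear_combination -h)

theorem exists_gen {ℓ : ℕ} (hℓ : ℓ.Prime) {E L : Type u} [Field E] [Field L] [Algebra E L] [FiniteDimensional E L]
    [IsGalois E L] (hL : Module.finrank E L = ℓ) :
    ∃ σ : Gal(L/E), (∀ t, t ∈ Subgroup.zpowers σ) ∧ orderOf σ = ℓ := by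
  haveI := Fact.mk hℓ
  haveI : IsCyclic Gal(L/E) := isCyclic_of_prime_card (p := ℓ) (by rw [IsGalois.card_aut_eq_finrank, hL])
  obtain ⟨σ, hσ⟩ := IsCyclic.exists_generator (α := Gal(L/E))
  exact ⟨σ, hσ, by rw [orderOf_eq_card_of_forall_mem_zpowers hσ, IsGalois.card_aut_eq_finrank, hL]⟩

theorem apply_sqrt {E L : Type u} [Field E] [Field L] [Algebra E L] [FiniteDimensional E L] [IsGalois E L]
    {σ : Gal(L/E)} (hσ : ∀ t, t ∈ Subgroup.zpowers σ) {b : E} (hb : ∀ c : E, c * c ≠ b) {s : L}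
    (hs : s * s = algebraMap E L b) : σ s = -s := by
  have h : σ s * σ s = s * s := by rw [← map_mul, hs, AlgEquiv.commutes]
  rcases mul_self_eq_mul_self_iff.1 h with h1 | h1
  · exfalso
    have hfix : s ∈ IntermediateField.fixedField (⊤ : Subgroup Gal(L/E)) := by
      rintro ⟨t, -⟩
      obtain ⟨k, hk⟩ := (isOfFinOrder_of_finite σ).mem_powers_iff_mem_zpowers.2 (hσ t)
      show t s = s
      rw [← show σ ^ k = t from hk]
      clear hk
      induction k with
      | zero => rfl
      | succ k ih => rw [pow_succ, AlgEquiv.mul_apply, h1, ih]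
    rw [← IntermediateField.fixingSubgroup_bot, IsGalois.fixedField_fixingSubgroup] at hfix
    obtain ⟨c, hc⟩ := IntermediateField.mem_bot.1 hfix
    exact hb c ((algebraMap E L).injective (by rw [map_mul, hc, hs]))
  · exact h1

/-- descent from `E(√-1)` when `-1` is a sum of squares -/
theorem vd_of_adjoin_i {d : ℕ} : ∀ (n : ℕ) (E : Type u) [Field E] (f : Fin n → E), (2 : E) ≠ 0 →
    (∑ j, f j * f j) = -1 → ∀ (L : Type u) [Field L] [Algebra E L] [FiniteDimensional E L] [IsGalois E L],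
      Module.finrank E L = 2 → ∀ i : L, i * i = -1 → (∀ c : E, c * c ≠ -1) → Vd 2 L d → Vd 2 E d := by
  intro n
  induction n with
  | zero =>
    intro E _ f h2 hf
    simp at hf
  | succ n ih =>
    intro E _ f h2 hf L _ _ _ _ hL i hi hno h
    rw [Fin.sum_univ_succ] at hf
    set x₁ := f 0 with hx₁
    set g : Fin n → E := fun j => f j.succ with hg
    by_cases hsq : ∃ y : E, y * y = 1 + x₁ * x₁
    · obtain ⟨y, hy⟩ := hsq
      have hy0 : y ≠ 0 := fun h0 => hno x₁ (by rw [h0] at hy; linear_combination -hy)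
      refine ih E (fun j => g j / y) h2 ?_ L hL i hi hno h
      simp_rw [div_mul_div_comm]
      rw [← Finset.sum_div, hy, div_eq_iff (fun h0 => hy0 (mul_self_eq_zero.1 (hy.trans h0)))]
      linear_combination hf
    push_neg at hsq
    have hb0 : 1 + x₁ * x₁ ≠ 0 := fun h0 => hno x₁ (by linear_combination h0)
    have hneg := isPrimitiveRoot_neg_one h2
    obtain ⟨L', _, _, _, _, s, hs, hL'⟩ := exists_kummer Nat.prime_two hneg (a := 1 + x₁ * x₁)
      (fun b => by rw [sq]; exact hsq b)
    rw [sq] at hs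
    have h2' : (2 : L') ≠ 0 := fun h0 => h2 ((algebraMap E L').injective (by rw [map_ofNat, map_zero, h0]))
    have htopi : E⟮i⟯ = ⊤ := by
      refine (IntermediateField.isSimpleOrder_of_finrank_prime E L (hL ▸ Nat.prime_two)).eq_bot_or_eq_top _
        |>.resolve_left fun hbot => ?_
      obtain ⟨c, hc⟩ := IntermediateField.mem_bot.1 (hbot ▸ IntermediateField.mem_adjoin_simple_self E i)
      exact hno c ((algebraMap E L).injective (by rw [map_mul, hc, hi, map_neg, map_one]))
    have hi2 : i ^ 2 = algebraMap E L (-1) := by rw [sq, hi, map_neg, map_one]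
    have hV' : Vd 2 L' d := by
      by_cases hj : ∃ j : L', j * j = -1
      · obtain ⟨j, hj⟩ := hj
        exact vd_of_root Nat.prime_two hneg hL hi2 htopi L' (γ := j) (by rw [sq, hj, map_neg, map_one]) h
      push_neg at hj
      obtain ⟨L'', _, _, _, _, t, ht, hL''⟩ := exists_kummer Nat.prime_two (isPrimitiveRoot_neg_one h2') (a := -1)
        (fun b => by rw [sq]; exact hj b)
      rw [map_neg, map_one] at ht
      letI : Algebra E L'' := ((algebraMap L' L'').comp (algebraMap E L')).toAlgebra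
      haveI : IsScalarTower E L' L'' := .of_algebraMap_eq' rfl
      haveI : FiniteDimensional E L'' := Module.Finite.trans L' L''
      have hVL'' : Vd 2 L'' d :=
        vd_of_root Nat.prime_two hneg hL hi2 htopi L'' (γ := t) (by rw [ht, map_neg, map_one]) h
      have hs0 : s ≠ 0 := fun h0 => hb0 ((algebraMap E L').injective (by rw [← hs, h0, mul_zero, map_zero]))
      refine ih L' (fun k => algebraMap E L' (g k) / s) h2' ?_ L'' hL'' t (by rw [← sq, ht]) hj hVL''
      simp_rw [div_mul_div_comm, ← map_mul]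
      rw [← Finset.sum_div, ← map_sum, hs, div_eq_iff (fun h0 => hb0 ((algebraMap E L').injective (by
        rw [h0, map_zero]))), neg_mul, one_mul, ← map_neg]
      congr 1
      linear_combination hf
    obtain ⟨σ, hσ, hoσ⟩ := exists_gen Nat.prime_two hL
    obtain ⟨σ', hσ', hoσ'⟩ := exists_gen Nat.prime_two hL'
    haveI : Etale (extHom (base E) L) := etale_extHom _
    haveI : Etale (extHom (base E) L') := etale_extHom _
    have hσi : σ i = -i := apply_sqrt hσ hno (by rw [hi, map_neg, map_one])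
    have hσs : σ' s = -s := apply_sqrt hσ' hsq hs
    refine vd_of_noTorsion fun F a hF q hq x _ => ?_
    refine eq_zero_of_perComp (isCyclicCover_base σ' hσ') rfl x (subsingleton_ext_pt hV' F hF hq)
      (subsingleton_ext_pt hV' F hF (by omega)) ?_
    exact eq_zero_of_perComp (isCyclicCover_base σ hσ) rfl _ (subsingleton_ext_pt h F hF (by omega))
      (subsingleton_ext_pt h F hF (by omega))
      (perComp_perComp_eq_zero h2 hσ hoσ hσ' hoσ' hi hσi x₁ hb0 hs hσs rfl rfl x)

theorem exists_sum_of_isSumSq {E : Type u} [Field E] {a : E} (h : IsSumSq a) :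
    ∃ (n : ℕ) (f : Fin n → E), (∑ j, f j * f j) = a := by
  induction h with
  | zero => exact ⟨0, Fin.elim0, by simp⟩
  | sq_add b _ ih =>
    obtain ⟨n, f, hf⟩ := ih
    exact ⟨n + 1, Fin.cons b f, by rw [Fin.sum_univ_succ, Fin.cons_zero]; simp [hf]⟩

/-- descent along a cyclic extension of degree `ℓ` -/
theorem vd_step {ℓ : ℕ} (hℓ : ℓ.Prime) {E L : Type u} [Field E] [Field L] [Algebra E L] [FiniteDimensional E L]
    [IsGalois E L] (hℓE : (ℓ : E) ≠ 0) (hord : ℓ = 2 → IsSumSq (-1 : E)) {ζ : E} (hζ : IsPrimitiveRoot ζ ℓ)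
    (hL : Module.finrank E L = ℓ) {d : ℕ} (h : Vd ℓ L d) : Vd ℓ E d := by
  haveI := Fact.mk hℓ
  haveI : NeZero ℓ := ⟨hℓ.ne_zero⟩
  have key : ∀ (F : Type u) [Field F] (z w : F), IsPrimitiveRoot z ℓ → w ^ ℓ = z → IsPrimitiveRoot w (ℓ * ℓ) := by
    intro F _ z w hz hw
    rw [← orderOf_eq_prime_pow (x := w) (p := ℓ) (n := 1) (by rw [pow_one, hw]; exact hz.ne_one hℓ.one_lt)
      (by rw [sq, pow_mul, hw, hz.pow_eq_one]) |>.trans (sq ℓ)]
    exact IsPrimitiveRoot.orderOf w
  by_cases hμ : ∃ μ : E, μ ^ ℓ = ζ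
  · obtain ⟨μ, hμ⟩ := hμ
    exact vd_step_root hℓ hℓE (key E ζ μ hζ hμ) hL h
  push_neg at hμ
  obtain ⟨E', _, _, _, _, ν, hν, hE'⟩ := exists_kummer hℓ hζ hμ
  have hV' : Vd ℓ E' d := by
    haveI : IsCyclic Gal(L/E) := isCyclic_of_prime_card (p := ℓ) (by rw [IsGalois.card_aut_eq_finrank, hL])
    have hK : (primitiveRoots (Module.finrank E L) E).Nonempty :=
      ⟨ζ, (mem_primitiveRoots Module.finrank_pos).2 (hL.symm ▸ hζ)⟩
    obtain ⟨α, ⟨a, ha⟩, htop⟩ := exists_root_adjoin_eq_top_of_isCyclic E L hK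
    rw [hL] at ha
    by_cases hγ : ∃ γ : E', γ ^ ℓ = algebraMap E E' a
    · obtain ⟨γ, hγ⟩ := hγ
      exact vd_of_root hℓ hζ hL ha.symm htop E' hγ h
    push_neg at hγ
    have hζ' : IsPrimitiveRoot (algebraMap E E' ζ) ℓ := hζ.map_of_injective (algebraMap E E').injective
    obtain ⟨M, _, _, _, _, γ, hγM, hM⟩ := exists_kummer hℓ hζ' hγ
    letI : Algebra E M := ((algebraMap E' M).comp (algebraMap E E')).toAlgebra
    haveI : IsScalarTower E E' M := .of_algebraMap_eq' rfl
    haveI : FiniteDimensional E M := Module.Finite.trans E' M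
    exact vd_step_root hℓ (fun h0 => hℓE ((algebraMap E E').injective (by rw [map_natCast, map_zero, h0])))
      (key E' _ ν hζ' hν) hM (vd_of_root hℓ hζ hL ha.symm htop M (γ := γ) hγM h)
  by_cases h2 : ℓ = 2
  · subst h2
    have hz : ζ = -1 := hζ.eq_neg_one_of_two_right
    obtain ⟨n, f, hf⟩ := exists_sum_of_isSumSq (hord rfl)
    refine vd_of_adjoin_i n E f (by exact_mod_cast hℓE) hf E' hE' ν (by rw [← sq, hν, hz, map_neg, map_one])
      (fun c hc => hμ c (by rw [sq, hc, hz])) hV'
  · exact vd_step_cyclotomic hℓ h2 hℓE hζ hμ hν hE' hV'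

theorem isSumSq_map {A B : Type u} [CommRing A] [CommRing B] (φ : A →+* B) {a : A} (h : IsSumSq a) :
    IsSumSq (φ a) := by
  induction h with
  | zero => rw [map_zero]; exact IsSumSq.zero
  | sq_add b _ ih => rw [map_add, map_mul]; exact IsSumSq.sq_add _ ih

/-- descent along a Galois extension whose degree is a power of `ℓ` -/
theorem vd_pGroup {ℓ : ℕ} (hℓ : ℓ.Prime) (k : ℕ) :
    ∀ (E L : Type u) [Field E] [Field L] [Algebra E L] [FiniteDimensional E L] [IsGalois E L],
      (ℓ : E) ≠ 0 → (ℓ = 2 → IsSumSq (-1 : E)) → (∃ ζ : E, IsPrimitiveRoot ζ ℓ) → Nat.card Gal(L/E) = ℓ ^ k →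
      ∀ d : ℕ, Vd ℓ L d → Vd ℓ E d := by
  haveI := Fact.mk hℓ
  induction k with
  | zero =>
    intro E L _ _ _ _ _ hℓE _ _ hcard d h
    refine vd_of_coprime hℓ ?_ h
    rw [← IsGalois.card_aut_eq_finrank, hcard, pow_zero]
    exact hℓ.not_dvd_one
  | succ k ih =>
    intro E L _ _ _ _ _ hℓE hord hζ hcard d h
    obtain ⟨N, hN⟩ := Sylow.exists_subgroup_card_pow_prime ℓ (n := k) (G := Gal(L/E))
      (by rw [hcard]; exact pow_dvd_pow ℓ (Nat.le_succ k))
    have hidx : N.index = ℓ := by
      have := N.card_mul_index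
      rw [hN, hcard, pow_succ] at this
      exact Nat.eq_of_mul_eq_mul_left (pow_pos hℓ.pos k) this
    haveI : N.Normal := Subgroup.normal_of_index_eq_minFac_card (by
      rw [hidx, hcard, Nat.Prime.pow_minFac hℓ (Nat.succ_ne_zero k)])
    let E1 := IntermediateField.fixedField N
    haveI : IsGalois E E1 := IsGalois.of_fixedField_normal_subgroup N
    have h1 : Module.finrank E1 L = ℓ ^ k := by rw [IntermediateField.finrank_fixedField_eq_card, hN]
    have h2 : Module.finrank E E1 = ℓ := by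
      have h2 := Module.finrank_mul_finrank E E1 L
      rw [h1, ← IsGalois.card_aut_eq_finrank E L, hcard, pow_succ'] at h2
      exact Nat.eq_of_mul_eq_mul_right (pow_pos hℓ.pos k) h2
    obtain ⟨ζ, hζ⟩ := hζ
    refine vd_step hℓ hℓE hord hζ h2 (ih E1 L ?_ ?_ ?_ (by rw [IsGalois.card_aut_eq_finrank, h1]) d h)
    · exact fun h0 => hℓE ((algebraMap E E1).injective (by rw [map_natCast, map_zero, h0]))
    · intro h2'
      have := isSumSq_map (algebraMap E E1) (hord h2')
      rwa [map_neg, map_one] at this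
    · exact ⟨_, hζ.map_of_injective (algebraMap E E1).injective⟩

/-- **Serre's theorem**: a finite extension has the same cohomological dimension, unless `ℓ = 2` and the
field can be ordered. -/
theorem vd_of_finite {ℓ : ℕ} (hℓ : ℓ.Prime) (E L : Type u) [Field E] [Field L] [Algebra E L]
    [FiniteDimensional E L] (hℓE : (ℓ : E) ≠ 0)
    (hord : ℓ ≠ 2 ∨ ¬ ∃ _ : LinearOrder E, IsStrictOrderedRing E) {d : ℕ} (h : Vd ℓ L d) : Vd ℓ E d := by
  haveI := Fact.mk hℓ
  haveI : NeZero ℓ := ⟨hℓ.ne_zero⟩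
  have hsum : ℓ = 2 → IsSumSq (-1 : E) := fun h2 => by
    by_contra hns
    exact hord.elim (fun h => h h2) (fun h => h (exists_linearOrder hns))
  let Ls := separableClosure E L
  haveI : IsPurelyInseparable Ls L := separableClosure.isPurelyInseparable E L
  have hs : Vd ℓ Ls d := vd_of_isPurelyInseparable h
  let Ω := AlgebraicClosure E
  haveI : NeZero (ℓ : Ω) := ⟨fun h0 => hℓE ((algebraMap E Ω).injective (by rw [map_natCast, map_zero, h0]))⟩
  obtain ⟨ζ, hζ⟩ := HasEnoughRootsOfUnity.exists_primitiveRoot Ω ℓ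
  let f : Ls →ₐ[E] Ω := IsAlgClosed.lift
  haveI : NeZero (ℓ : E) := ⟨hℓE⟩
  have hζint : IsIntegral E ζ := Algebra.IsIntegral.isIntegral ζ
  have hζsep : IsSeparable E ζ := by
    refine (Polynomial.separable_cyclotomic ℓ E).of_dvd (minpoly.dvd _ _ ?_)
    rw [Polynomial.aeval_def, ← Polynomial.eval_map, Polynomial.map_cyclotomic]
    exact hζ.isRoot_cyclotomic hℓ.pos
  haveI : FiniteDimensional E E⟮ζ⟯ := IntermediateField.adjoin.finiteDimensional hζint
  haveI : Algebra.IsSeparable E E⟮ζ⟯ := IntermediateField.isSeparable_adjoin_simple_iff_isSeparable E Ω |>.2 hζsep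
  haveI : Algebra.IsSeparable E f.fieldRange := AlgEquiv.Algebra.isSeparable (AlgEquiv.ofInjectiveField f)
  haveI : FiniteDimensional E f.fieldRange := (AlgEquiv.ofInjectiveField f).toLinearEquiv.finiteDimensional
  let S : IntermediateField E Ω := f.fieldRange ⊔ E⟮ζ⟯
  haveI : FiniteDimensional E S := IntermediateField.finiteDimensional_sup _ _
  haveI : Algebra.IsSeparable E S := IntermediateField.isSeparable_sup E Ω f.fieldRange E⟮ζ⟯
  let N : IntermediateField E Ω := IntermediateField.normalClosure E S Ω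
  haveI : Algebra.IsSeparable E N := by
    haveI : ∀ g : S →ₐ[E] Ω, Algebra.IsSeparable E g.fieldRange := fun g =>
      AlgEquiv.Algebra.isSeparable (AlgEquiv.ofInjectiveField g)
    exact IntermediateField.isSeparable_iSup (h := fun g => inferInstance)
  haveI : IsGalois E N := ⟨⟩
  have hSN : S ≤ N := IntermediateField.le_normalClosure S
  letI : Algebra Ls N := ((IntermediateField.inclusion ((le_sup_left : f.fieldRange ≤ S).trans hSN)).comp
    f.rangeRestrict).toRingHom.toAlgebra
  haveI : IsScalarTower E Ls N := .of_algebraMap_eq fun x =>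
    (((IntermediateField.inclusion ((le_sup_left : f.fieldRange ≤ S).trans hSN)).comp f.rangeRestrict).commutes x).symm
  haveI : Algebra.IsAlgebraic Ls N := Algebra.IsAlgebraic.tower_top (K := E) Ls
  have hN : Vd ℓ N d := vd_of_isAlgebraic hs
  letI : Algebra E⟮ζ⟯ N := (IntermediateField.inclusion ((le_sup_right : E⟮ζ⟯ ≤ S).trans hSN)).toRingHom.toAlgebra
  haveI : IsScalarTower E E⟮ζ⟯ N := .of_algebraMap_eq fun x => rfl
  haveI : FiniteDimensional E⟮ζ⟯ N := Module.Finite.of_restrictScalars_finite E E⟮ζ⟯ N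
  haveI : IsGalois E⟮ζ⟯ N := IsGalois.tower_top_of_isGalois E E⟮ζ⟯ N
  have hdeg : ¬ ℓ ∣ Module.finrank E E⟮ζ⟯ := by
    intro hdvd
    have h1 := Nat.le_of_dvd Module.finrank_pos hdvd
    rw [IntermediateField.adjoin.finrank hζint] at h1
    have h2 := natDegree_le_of_dvd (minpoly.dvd E ζ (p := cyclotomic ℓ E) (by
      rw [Polynomial.aeval_def, ← Polynomial.eval_map, Polynomial.map_cyclotomic]
      exact hζ.isRoot_cyclotomic hℓ.pos)) (cyclotomic_ne_zero ℓ E)
    rw [natDegree_cyclotomic, Nat.totient_prime hℓ] at h2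
    have := hℓ.two_le
    omega
  refine vd_of_coprime hℓ hdeg ?_
  let P : Sylow ℓ Gal(N/E⟮ζ⟯) := Classical.arbitrary _
  let E1 := IntermediateField.fixedField (P : Subgroup Gal(N/E⟮ζ⟯))
  obtain ⟨k, hk⟩ := IsPGroup.iff_card.1 P.isPGroup'
  have hidx : Module.finrank E⟮ζ⟯ E1 = (P : Subgroup Gal(N/E⟮ζ⟯)).index := by
    have h2 := Module.finrank_mul_finrank E⟮ζ⟯ E1 N
    rw [IntermediateField.finrank_fixedField_eq_card, ← IsGalois.card_aut_eq_finrank E⟮ζ⟯ N,
      ← (P : Subgroup Gal(N/E⟮ζ⟯)).card_mul_index, mul_comm] at h2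
    exact Nat.eq_of_mul_eq_mul_left Nat.card_pos h2
  refine vd_of_coprime (L := E1) hℓ (hidx ▸ P.not_dvd_index) (vd_pGroup hℓ k E1 N ?_ ?_ ?_
    (by rw [IsGalois.card_aut_eq_finrank, IntermediateField.finrank_fixedField_eq_card, hk]) d hN)
  · exact fun h0 => hℓE ((algebraMap E E1).injective (by rw [map_natCast, map_zero, h0]))
  · intro h2
    have := isSumSq_map (algebraMap E E1) (hsum h2)
    rwa [map_neg, map_one] at this
  · refine ⟨algebraMap E⟮ζ⟯ E1 (AdjoinSimple.gen E ζ), IsPrimitiveRoot.map_of_injective ?_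
      (algebraMap E⟮ζ⟯ E1).injective⟩
    exact IsPrimitiveRoot.of_map_of_injective (f := algebraMap E⟮ζ⟯ Ω) (by simpa using hζ)
      (algebraMap E⟮ζ⟯ Ω).injective

end Groth.Agent.SerreCd
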