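import Groth.Agent.SerreCd.Springer
import Groth.Agent.SerreCd.Main
import Groth.Agent.EtDvrCd.Kummer
import Groth.Agent.EtDvrCd.Residue
import Groth.Agent.S0073

/-!
# Fields which can be ordered have infinite `2`-cohomological dimension
-/

set_option autoImplicit false
set_option linter.style.haveILetI false
set_option linter.unusedSectionVars false
set_option backward.isDefEq.respectTransparency false
set_option backward.isDefEq.respectTransparency.types false

universe u

open CategoryTheory CategoryTheory.Limits AlgebraicGeometry Opposite Abelian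
open Polynomial

noncomputable section

namespace Groth.Agent.SerreCd

open FieldCd CurveCd EtDvrCd

section algebra

variable {E Ω : Type u} [Field E] [Field Ω] [Algebra E Ω]

theorem exists_maximal_semireal [IsSemireal E] :
    ∃ F : IntermediateField E Ω, ¬ IsSumSq (-1 : F) ∧ ∀ F' : IntermediateField E Ω, F ≤ F' →
      ¬ IsSumSq (-1 : F') → F' ≤ F := by
  let S : Set (IntermediateField E Ω) := {F | ¬ IsSumSq (-1 : F)}
  have hbot : (⊥ : IntermediateField E Ω) ∈ S := fun h => by
    have := isSumSq_map (IntermediateField.botEquiv E Ω).toRingEquiv.toRingHom h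
    rw [map_neg, map_one] at this
    exact IsSemireal.not_isSumSq_neg_one E this
  have hchain : ∀ c : Set (IntermediateField E Ω), c ⊆ S → IsChain (· ≤ ·) c → ∀ y ∈ c,
      ∃ ub ∈ S, ∀ z ∈ c, z ≤ ub := by
    intro c hcS hc y hy
    refine ⟨sSup c, fun hsum => ?_, fun z hz => le_sSup hz⟩
    haveI : Nonempty c := ⟨⟨y, hy⟩⟩
    have hdir : Directed (· ≤ ·) (fun F : c => (F : IntermediateField E Ω)) := hc.directed
    have hmem : ∀ z : Ω, z ∈ sSup c → ∃ F ∈ c, z ∈ F := fun z hz => by
      rw [sSup_eq_iSup', ← SetLike.mem_coe, IntermediateField.coe_iSup_of_directed hdir, Set.mem_iUnion] at hz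
      obtain ⟨⟨F, hF⟩, hzF⟩ := hz
      exact ⟨F, hF, hzF⟩
    have key : ∀ a : (sSup c : IntermediateField E Ω), IsSumSq a →
        ∃ (F : IntermediateField E Ω) (_ : F ∈ c) (b : F), IsSumSq b ∧ (b : Ω) = a := by
      intro a ha
      induction ha with
      | zero => exact ⟨y, hy, 0, IsSumSq.zero, rfl⟩
      | sq_add a' _ ih =>
        obtain ⟨F, hFc, b, hb, hbe⟩ := ih
        obtain ⟨G, hGc, haG⟩ := hmem a' a'.2
        rcases hc.total hFc hGc with hle | hle
        · refine ⟨G, hGc, ⟨a', haG⟩ * ⟨a', haG⟩ + IntermediateField.inclusion hle b, IsSumSq.sq_add _ (isSumSq_map _ hb), ?_⟩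
          show (a' : Ω) * a' + (b : Ω) = _
          rw [hbe]; rfl
        · refine ⟨F, hFc, ⟨a', hle haG⟩ * ⟨a', hle haG⟩ + b, IsSumSq.sq_add _ hb, ?_⟩
          show (a' : Ω) * a' + (b : Ω) = _
          rw [hbe]; rfl
    obtain ⟨F, hFc, b, hb, hbe⟩ := key _ hsum
    exact hcS hFc (by rwa [show b = -1 from Subtype.ext hbe] at hb)
  obtain ⟨F, -, hF⟩ := zorn_le_nonempty₀ S hchain ⊥ hbot
  exact ⟨F, hF.prop, fun F' hle hF' => hF.le_of_ge hF' hle⟩

variable {F : IntermediateField E Ω}
  (hF : ¬ IsSumSq (-1 : F)) (hmax : ∀ F' : IntermediateField E Ω, F ≤ F' → ¬ IsSumSq (-1 : F') → F' ≤ F)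
include hF hmax

theorem mem_of_semireal (F' : IntermediateField F Ω) (hF' : ¬ IsSumSq (-1 : F')) {z : Ω} (hz : z ∈ F') : z ∈ F :=
  hmax (F'.restrictScalars E) (fun x hx => F'.algebraMap_mem ⟨x, hx⟩) hF' hz

theorem exists_sqrt [IsAlgClosed Ω] (a : F) : ∃ b : F, b * b = a ∨ b * b = -a := by
  obtain ⟨o, ho⟩ := exists_linearOrder hF
  letI := o
  haveI := ho
  suffices key : ∀ c : F, 0 ≤ c → ∃ b : F, b * b = c by
    rcases le_total 0 a with h | h
    · obtain ⟨b, hb⟩ := key a h; exact ⟨b, Or.inl hb⟩
    · obtain ⟨b, hb⟩ := key (-a) (neg_nonneg.2 h); exact ⟨b, Or.inr hb⟩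
  intro c hc
  by_contra hne
  push_neg at hne
  obtain ⟨s, hs⟩ := IsAlgClosed.exists_pow_nat_eq (algebraMap F Ω c) two_pos
  rw [sq] at hs
  have hint : IsIntegral F s := ⟨X ^ 2 - Polynomial.C c, monic_X_pow_sub_C c two_ne_zero, by simp [sq, hs]⟩
  have hrep : ∀ z ∈ IntermediateField.adjoin F ({s} : Set Ω), ∃ x y : F, z = algebraMap F Ω x + algebraMap F Ω y * s := by
    intro z hz
    rw [← IntermediateField.mem_toSubalgebra,
      IntermediateField.adjoin_simple_toSubalgebra_of_isAlgebraic hint.isAlgebraic] at hz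
    induction hz using Algebra.adjoin_induction with
    | mem z hz => exact ⟨0, 1, by rw [Set.mem_singleton_iff.1 hz]; simp⟩
    | algebraMap r => exact ⟨r, 0, by simp⟩
    | add u v _ _ hu hv =>
      obtain ⟨x, y, rfl⟩ := hu
      obtain ⟨x', y', rfl⟩ := hv
      exact ⟨x + x', y + y', by simp only [map_add]; ring⟩
    | mul u v _ _ hu hv =>
      obtain ⟨x, y, rfl⟩ := hu
      obtain ⟨x', y', rfl⟩ := hv
      exact ⟨x * x' + c * (y * y'), x * y' + y * x', by
        simp only [map_add, map_mul]
        linear_combination (algebraMap F Ω y * algebraMap F Ω y') * hs⟩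
  have key : ∀ v : IntermediateField.adjoin F ({s} : Set Ω), IsSumSq v →
      ∃ x y : F, 0 ≤ x ∧ (v : Ω) = algebraMap F Ω x + algebraMap F Ω y * s := by
    intro v hv
    induction hv with
    | zero => exact ⟨0, 0, le_rfl, by simp⟩
    | sq_add a _ ih =>
      obtain ⟨x, y, hx, he⟩ := ih
      obtain ⟨p, q, hpq⟩ := hrep _ a.2
      refine ⟨p * p + c * (q * q) + x, 2 * (p * q) + y,
        add_nonneg (add_nonneg (mul_self_nonneg p) (mul_nonneg hc (mul_self_nonneg q))) hx, ?_⟩
      show (a : Ω) * a + (_ : Ω) = _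
      rw [he, hpq]
      simp only [map_add, map_mul, map_ofNat]
      linear_combination (algebraMap F Ω q * algebraMap F Ω q) * hs
  have hreal : ¬ IsSumSq (-1 : IntermediateField.adjoin F ({s} : Set Ω)) := fun h => by
    obtain ⟨x, y, hx, he⟩ := key _ h
    rcases eq_or_ne y 0 with rfl | hy
    · have h2 : algebraMap F Ω x = algebraMap F Ω (-1) := by
        rw [map_neg, map_one]
        simpa using he.symm
      have h3 := (algebraMap F Ω).injective h2
      rw [h3] at hx
      linarith
    · have he' : (-1 : Ω) = algebraMap F Ω x + algebraMap F Ω y * s := by simpa using he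
      have hsF : s = algebraMap F Ω ((-1 - x) / y) := by
        rw [map_div₀, eq_div_iff ((_root_.map_ne_zero _).2 hy), map_sub, map_neg, map_one]
        linear_combination -he'
      exact hne _ ((algebraMap F Ω).injective (by rw [map_mul, ← hsF, hs]))
  have hsmem := mem_of_semireal hF hmax _ hreal (IntermediateField.mem_adjoin_simple_self F s)
  exact hne ⟨s, hsmem⟩ (Subtype.ext hs)

theorem mem_of_odd [IsAlgClosed Ω] [Algebra.IsAlgebraic E Ω] (z : Ω) (hz : Odd (minpoly F z).natDegree) : z ∈ F := by
  haveI : IsSemireal F := IsSemireal.of_not_isSumSq_neg_one hF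
  haveI : Algebra.IsAlgebraic F Ω := Algebra.IsAlgebraic.tower_top (K := E) F
  have hint : IsIntegral F z := Algebra.IsIntegral.isIntegral z
  have hirr := minpoly.irreducible hint
  refine mem_of_semireal hF hmax (IntermediateField.adjoin F {z}) (fun h => ?_) (IntermediateField.mem_adjoin_simple_self F z)
  refine not_isSumSq_adjoinRoot _ (minpoly F z) rfl hirr hz ?_
  have := isSumSq_map (IntermediateField.adjoinRootEquivAdjoin F hint).symm.toRingEquiv.toRingHom h
  rwa [map_neg, map_one] at this

theorem exists_sqrt_adjoin_i [IsAlgClosed Ω] [CharZero F] {i : Ω} (hi : i * i = -1) (a b : F) :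
    ∃ x y : F, (algebraMap F Ω x + algebraMap F Ω y * i) * (algebraMap F Ω x + algebraMap F Ω y * i) =
      algebraMap F Ω a + algebraMap F Ω b * i := by
  obtain ⟨o, ho⟩ := exists_linearOrder hF
  letI := o
  haveI := ho
  have key : ∀ c : F, 0 ≤ c → ∃ r : F, 0 ≤ r ∧ r * r = c := fun c hc => by
    obtain ⟨r, hr | hr⟩ := exists_sqrt hF hmax c
    · exact ⟨|r|, abs_nonneg r, by rw [abs_mul_abs_self, hr]⟩
    · have h0 : c = 0 := le_antisymm (by have := mul_self_nonneg r; linarith) hc
      exact ⟨0, le_rfl, by rw [h0, mul_zero]⟩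
  obtain ⟨m, hm0, hm⟩ := key (a * a + b * b) (add_nonneg (mul_self_nonneg a) (mul_self_nonneg b))
  have hma : 0 ≤ m + a ∧ 0 ≤ m - a := by
    constructor <;> by_contra hlt <;> nlinarith [mul_self_nonneg b]
  obtain ⟨x, -, hx⟩ := key ((m + a) / 2) (div_nonneg hma.1 zero_le_two)
  obtain ⟨y, -, hy⟩ := key ((m - a) / 2) (div_nonneg hma.2 zero_le_two)
  have h2 : (2 * (x * y)) * (2 * (x * y)) = b * b := by
    have : (x * x) * (y * y) * 4 = b * b := by
      rw [hx, hy]
      linear_combination hm
    linear_combination this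
  have hxy : x * x - y * y = a := by rw [hx, hy]; ring
  rcases mul_self_eq_mul_self_iff.1 h2 with h3 | h3
  · refine ⟨x, y, ?_⟩
    rw [← h3, ← hxy]
    simp only [map_sub, map_mul, map_ofNat]
    linear_combination (algebraMap F Ω y * algebraMap F Ω y) * hi
  · refine ⟨x, -y, ?_⟩
    rw [← hxy, show b = -(2 * (x * y)) by linear_combination h3]
    simp only [map_sub, map_mul, map_ofNat, map_neg]
    linear_combination (algebraMap F Ω y * algebraMap F Ω y) * hi

end algebra

/-- an orderable field has infinite `2`-cohomological dimension -/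
theorem not_vd_of_semireal (E : Type u) [Field E] [IsSemireal E] (d : ℕ) : ¬ Vd 2 E d := by
  intro h
  let Ω := AlgebraicClosure E
  obtain ⟨F, hF, hmax⟩ := exists_maximal_semireal (E := E) (Ω := Ω)
  haveI : IsSemireal F := IsSemireal.of_not_isSumSq_neg_one hF
  haveI : Algebra.IsAlgebraic F Ω := Algebra.IsAlgebraic.tower_top (K := E) F
  have hVF : Vd 2 F d := vd_of_isAlgebraic h
  obtain ⟨i, hi⟩ := IsAlgClosed.exists_pow_nat_eq (-1 : Ω) two_pos
  rw [sq] at hi
  let K := IntermediateField.adjoin F ({i} : Set Ω)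
  have hint : IsIntegral F i := Algebra.IsIntegral.isIntegral i
  haveI : FiniteDimensional F K := IntermediateField.adjoin.finiteDimensional hint
  have hiK : i ∈ K := IntermediateField.mem_adjoin_simple_self F i
  have hno : ∀ c : F, c * c ≠ -1 := fun c hc => hF (hc ▸ IsSumSq.mul_self c)
  have hrep : ∀ z ∈ K, ∃ x y : F, z = algebraMap F Ω x + algebraMap F Ω y * i := by
    intro z hz
    rw [← IntermediateField.mem_toSubalgebra,
      IntermediateField.adjoin_simple_toSubalgebra_of_isAlgebraic hint.isAlgebraic] at hz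
    induction hz using Algebra.adjoin_induction with
    | mem z hz => exact ⟨0, 1, by rw [Set.mem_singleton_iff.1 hz]; simp⟩
    | algebraMap r => exact ⟨r, 0, by simp⟩
    | add u v _ _ hu hv =>
      obtain ⟨x, y, rfl⟩ := hu
      obtain ⟨x', y', rfl⟩ := hv
      exact ⟨x + x', y + y', by simp only [map_add]; ring⟩
    | mul u v _ _ hu hv =>
      obtain ⟨x, y, rfl⟩ := hu
      obtain ⟨x', y', rfl⟩ := hv
      exact ⟨x * x' - y * y', x * y' + y * x', by
        simp only [map_add, map_sub, map_mul]
        linear_combination (algebraMap F Ω y * algebraMap F Ω y') * hi⟩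
  have hdeg : Module.finrank F K = 2 := by
    have h2 : (minpoly F i).natDegree ≤ 2 :=
      (natDegree_le_of_dvd (minpoly.dvd F i (p := X ^ 2 + 1) (by simp [sq, hi]))
        (Monic.ne_zero (by monicity!))).trans (natDegree_X_pow_add_C (n := 2) (r := (1 : F))).le
    rw [IntermediateField.adjoin.finrank hint]
    refine le_antisymm h2 ?_
    by_contra hlt
    obtain ⟨c, hc⟩ := minpoly.two_le_natDegree_iff hint |>.not.1 hlt |> not_not.1
    exact hno c ((algebraMap F Ω).injective (by rw [map_mul, hc, hi, map_neg, map_one]))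
  -- every element is in `K`
  have htop : ∀ z : Ω, z ∈ K := by
    intro z
    haveI : FiniteDimensional F (IntermediateField.adjoin F ({i, z} : Set Ω)) :=
      IntermediateField.finiteDimensional_adjoin fun w _ => Algebra.IsIntegral.isIntegral w
    let N : IntermediateField F Ω := IntermediateField.normalClosure F (IntermediateField.adjoin F ({i, z} : Set Ω)) Ω
    haveI : IsGalois F N := ⟨⟩
    have hAN : IntermediateField.adjoin F ({i, z} : Set Ω) ≤ N := IntermediateField.le_normalClosure _
    have hKN : K ≤ N := (IntermediateField.adjoin.mono F {i} {i, z} (by simp)).trans hAN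
    have hzN : z ∈ N := hAN (IntermediateField.subset_adjoin F _ (by simp))
    haveI := Fact.mk Nat.prime_two
    let P : Sylow 2 Gal(N/F) := Classical.arbitrary _
    let E1 := IntermediateField.fixedField (P : Subgroup Gal(N/F))
    have hidx : Module.finrank F E1 = (P : Subgroup Gal(N/F)).index := by
      have h2 := Module.finrank_mul_finrank F E1 N
      rw [IntermediateField.finrank_fixedField_eq_card, ← IsGalois.card_aut_eq_finrank F N,
        ← (P : Subgroup Gal(N/F)).card_mul_index, mul_comm] at h2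
      exact Nat.eq_of_mul_eq_mul_left Nat.card_pos h2
    have hP : (P : Subgroup Gal(N/F)) = ⊤ := by
      obtain ⟨w, hw⟩ := Field.exists_primitive_element F E1
      have hwo : Odd (minpoly F w).natDegree := by
        rw [← IntermediateField.adjoin.finrank (Algebra.IsIntegral.isIntegral w), hw, IntermediateField.finrank_top',
          hidx, Nat.odd_iff]
        exact Nat.two_dvd_ne_zero.1 P.not_dvd_index
      have hmin : minpoly F w = minpoly F ((w : N) : Ω) :=
        (minpoly.algebraMap_eq (algebraMap E1 N).injective w).symm.trans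
          (minpoly.algebraMap_eq (algebraMap N Ω).injective (w : N)).symm
      have hwF : ((w : N) : Ω) ∈ F := mem_of_odd hF hmax _ (hmin ▸ hwo)
      have hwbot : w ∈ (⊥ : IntermediateField F E1) :=
        IntermediateField.mem_bot.2 ⟨⟨_, hwF⟩, Subtype.ext (Subtype.ext rfl)⟩
      rw [IntermediateField.adjoin_simple_eq_bot_iff.2 hwbot] at hw
      have h1 : Module.finrank F E1 = 1 := by
        rw [← IntermediateField.finrank_top' (F := F) (E := E1), ← hw, IntermediateField.finrank_bot]
      rw [hidx, Subgroup.index_eq_one] at h1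
      exact h1
    obtain ⟨k, hk⟩ := IsPGroup.iff_card.1 P.isPGroup'
    have hN : Module.finrank F N = 2 ^ k := by
      rw [← IsGalois.card_aut_eq_finrank, ← hk, hP, Subgroup.card_top]
    letI : Algebra K N := (IntermediateField.inclusion hKN).toRingHom.toAlgebra
    haveI : IsScalarTower F K N := .of_algebraMap_eq fun x => rfl
    haveI : FiniteDimensional K N := Module.Finite.of_restrictScalars_finite F K N
    haveI : IsGalois K N := IsGalois.tower_top_of_isGalois F K N
    have hKN2 : Module.finrank K N = 1 := by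
      have hmul := Module.finrank_mul_finrank F K N
      rw [hdeg, hN] at hmul
      obtain ⟨k', rfl⟩ : ∃ k', k = k' + 1 := by
        rcases k with _ | k'
        · omega
        · exact ⟨k', rfl⟩
      rw [pow_succ'] at hmul
      have hcard : Nat.card Gal(N/K) = 2 ^ k' := by
        rw [IsGalois.card_aut_eq_finrank, Nat.eq_of_mul_eq_mul_left two_pos hmul]
      rcases k' with _ | k''
      · exact Nat.eq_of_mul_eq_mul_left two_pos hmul
      exfalso
      obtain ⟨H, hH⟩ := Sylow.exists_subgroup_card_pow_prime 2 (n := k'') (G := Gal(N/K))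
        (by rw [hcard]; exact pow_dvd_pow 2 (Nat.le_succ _))
      have hHi : H.index = 2 := by
        have := H.card_mul_index
        rw [hH, hcard, pow_succ] at this
        exact Nat.eq_of_mul_eq_mul_left (pow_pos two_pos k'') this
      haveI : H.Normal := Subgroup.normal_of_index_eq_two hHi
      let M := IntermediateField.fixedField H
      haveI : IsGalois K M := IsGalois.of_fixedField_normal_subgroup H
      have hM : Module.finrank K M = 2 := by
        have h2 := Module.finrank_mul_finrank K M N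
        rw [IntermediateField.finrank_fixedField_eq_card, ← IsGalois.card_aut_eq_finrank K N, ← H.card_mul_index,
          hHi, mul_comm] at h2
        exact Nat.eq_of_mul_eq_mul_left Nat.card_pos h2
      haveI : IsCyclic Gal(M/K) := isCyclic_of_prime_card (p := 2) (by rw [IsGalois.card_aut_eq_finrank, hM])
      have h2K : (2 : K) ≠ 0 := two_ne_zero
      have hroots : (primitiveRoots (Module.finrank K M) K).Nonempty :=
        ⟨-1, (mem_primitiveRoots Module.finrank_pos).2 (hM.symm ▸ isPrimitiveRoot_neg_one h2K)⟩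
      obtain ⟨α, ⟨a, ha⟩, htopα⟩ := exists_root_adjoin_eq_top_of_isCyclic K M hroots
      have hirr := irreducible_X_pow_sub_C_of_root_adjoin_eq_top (K := K) (L := M) (a := a) (α := α) ha.symm htopα
      rw [hM] at hirr
      have hne := pow_ne_of_irreducible_X_pow_sub_C hirr dvd_rfl (by norm_num : (2 : ℕ) ≠ 1)
      obtain ⟨p, q, hpq⟩ := hrep _ a.2
      obtain ⟨x, y, hxy⟩ := exists_sqrt_adjoin_i hF hmax hi p q
      refine hne ⟨algebraMap F Ω x + algebraMap F Ω y * i,
        add_mem (K.algebraMap_mem x) (mul_mem (K.algebraMap_mem y) hiK)⟩ (Subtype.ext ?_)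
      show (_ : Ω) ^ 2 = _
      rw [sq, hxy, ← hpq]
    have hz' : (⟨z, hzN⟩ : N) ∈ Set.range (algebraMap K N) := by
      obtain ⟨c, hc⟩ := (finrank_eq_one_iff_of_nonzero' (1 : N) one_ne_zero).1 hKN2 ⟨z, hzN⟩
      exact ⟨c, (Algebra.algebraMap_eq_smul_one c).trans hc⟩
    obtain ⟨c, hc⟩ := hz'
    have := congrArg (fun w : N => (w : Ω)) hc
    simp only at this
    rw [← this]
    exact c.2
  haveI : IsSepClosed K := EtCdFun.isSepClosed_of_equiv
    (RingEquiv.ofBijective (algebraMap K Ω) ⟨(algebraMap K Ω).injective, fun z => ⟨⟨z, htop z⟩, rfl⟩⟩).symm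
  haveI : IsGalois F K := by
    haveI : Algebra.IsQuadraticExtension F K := ⟨hdeg⟩
    exact inferInstance
  haveI : IsSepClosed (IsLocalRing.ResidueField K) := EtCdFun.isSepClosed_of_equiv
    (RingEquiv.ofBijective (IsLocalRing.residue K) ⟨RingHom.injective _, IsLocalRing.residue_surjective⟩)
  have hVK : Vd 2 K 0 := fun G a _ q hq => S0073.result K G q (by omega)
  -- periodicity
  obtain ⟨σ, hσ, -⟩ := exists_gen Nat.prime_two hdeg
  haveI : Etale (extHom (base F) K) := etale_extHom _
  let S := Spec (CommRingCat.of F)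
  have h2F : (2 : F) ≠ 0 := two_ne_zero
  haveI : Epi (EtCoh.powMap S 2) := S0108.result S 2 (natCast_isUnit_sections (by exact_mod_cast h2F))
  have hk : (2 ^ 1) • 𝟙 (EtCoh.mu S 2) = 0 := by rw [pow_one]; exact killed_mu _ 2
  have hzero : ∀ (n q : ℕ), 1 ≤ q → d < q + 2 * n →
      ∀ x : Ext (free (EtCoh.top S)) (EtCoh.mu S 2) q, x = 0 := by
    intro n
    induction n with
    | zero => exact fun q _ hq x => ((subsingleton_H_iff _ q).1 (hVF _ 1 hk q (by omega))).elim x 0
    | succ n ih =>
      intro q hq hqd x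
      refine eq_zero_of_perComp (isCyclicCover_base σ hσ) rfl x (subsingleton_ext_pt hVK _ hk (by omega))
        (subsingleton_ext_pt hVK _ hk (by omega)) ?_
      exact ih (2 + q) (by omega) (by omega) _
  have hm1 : ((-1 : F)) ≠ 0 := neg_ne_zero.2 one_ne_zero
  obtain ⟨t, ht⟩ := val_surjective (base F) (Units.mk0 _ hm1)
  have hx : (Ext.mk₀ t).comp (shortExact_SK S 2).extClass (zero_add 1) = 0 := hzero d 1 le_rfl (by omega) _
  obtain ⟨y, hy⟩ := Ext.covariant_sequence_exact₃ _ (shortExact_SK S 2) (Ext.mk₀ t) (rfl : 0 + 1 = 1) hx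
  obtain ⟨v, rfl⟩ := (Ext.mk₀_bijective _ _).2 y
  rw [Ext.mk₀_comp_mk₀] at hy
  have hv : ((val (e := base F) v : Fˣ) : F) ^ 2 = -1 := by
    rw [← Units.val_pow_eq_pow_val, ← val_powMap, show v ≫ EtCoh.powMap S 2 = t from (Ext.mk₀_bijective _ _).1 hy, ht]
    rfl
  exact hno _ (by rw [← sq, hv])

end Groth.Agent.SerreCd
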