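import Groth.Agent.SerreCd.Chain
import Mathlib.RingTheory.AlgebraicIndependent.TranscendenceBasis
import Mathlib.RingTheory.Polynomial.Basic
import Mathlib.RingTheory.MvPolynomial.Basic

/-!
# Lower bound for the cohomological dimension of finitely generated extensions
-/

set_option autoImplicit false
set_option linter.style.haveILetI false
set_option linter.unusedSectionVars false
set_option backward.isDefEq.respectTransparency false
set_option backward.isDefEq.respectTransparency.types false

universe u

open IsLocalRing MvPolynomial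

noncomputable section

namespace Groth.Agent.SerreCd

open FieldCd

/-- killing the first variables -/
def killLT (k : Type u) [CommRing k] (t j : ℕ) : MvPolynomial (Fin t) k →ₐ[k] MvPolynomial (Fin t) k :=
  aeval fun i => if (i : ℕ) < j then 0 else X i

theorem killLT_X (k : Type u) [CommRing k] (t j : ℕ) (i : Fin t) :
    killLT k t j (X i) = if (i : ℕ) < j then 0 else X i := aeval_X _ _

theorem killLT_comp (k : Type u) [CommRing k] (t : ℕ) {j j' : ℕ} (h : j ≤ j') (f : MvPolynomial (Fin t) k) :
    killLT k t j' (killLT k t j f) = killLT k t j' f := by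
  suffices he : (killLT k t j').comp (killLT k t j) = killLT k t j' from DFunLike.congr_fun he f
  refine algHom_ext fun i => ?_
  rw [AlgHom.comp_apply, killLT_X]
  split_ifs with h1
  · rw [map_zero, killLT_X, if_pos (lt_of_lt_of_le h1 h)]
  · rfl

/-- a purely transcendental extension raises the dimension by the transcendence degree -/
theorem vd_of_frac_mvPolynomial (k : Type u) [Field k] (t : ℕ) (K : Type u) [Field K]
    [Algebra (MvPolynomial (Fin t) k) K] [IsFractionRing (MvPolynomial (Fin t) k) K] {ℓ : ℕ} (hℓ : ℓ.Prime)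
    (hℓk : (ℓ : k) ≠ 0) (hord : Hord ℓ k) {d : ℕ} (h : Vd ℓ K d) :
    t ≤ d ∧ Vd ℓ k (d - t) := by
  let P := MvPolynomial (Fin t) k
  let m0 : Ideal P := RingHom.ker (constantCoeff (σ := Fin t) (R := k))
  haveI hm0 : m0.IsMaximal := RingHom.ker_isMaximal_of_surjective _ fun c => ⟨C c, constantCoeff_C _ c⟩
  haveI := hm0.isPrime
  have hle : ∀ j, RingHom.ker (killLT k t j) ≤ m0 := fun j f hf => by
    rw [RingHom.mem_ker] at hf ⊢
    have he : (constantCoeff (σ := Fin t) (R := k)).comp (killLT k t j).toRingHom = constantCoeff := by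
      refine ringHom_ext (fun r => ?_) fun i => ?_
      · simp [killLT]
      · show constantCoeff (killLT k t j (X i)) = constantCoeff (X i)
        rw [killLT_X]
        split_ifs <;> simp
    rw [← DFunLike.congr_fun he f]
    show constantCoeff (killLT k t j f) = 0
    rw [hf, map_zero]
  let p : Fin (t + 1) → PrimeSpectrum P := fun j => ⟨RingHom.ker (killLT k t j), RingHom.ker_isPrime _⟩
  have hp : StrictMono p := fun i j hij => by
    refine (PrimeSpectrum.asIdeal_lt_asIdeal _ _).1 (lt_of_le_of_ne (fun f hf => ?_) fun he => ?_)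
    · show killLT k t j f = 0
      rw [← killLT_comp k t hij.le f, show killLT k t i f = 0 from hf, map_zero]
    · let a : Fin t := ⟨i, by omega⟩
      have h1 : (X a : P) ∈ RingHom.ker (killLT k t j) := by
        rw [RingHom.mem_ker, killLT_X, if_pos (show (a : ℕ) < j from hij)]
      rw [show (p j).asIdeal = RingHom.ker (killLT k t j) from rfl] at he
      rw [← he, show (p i).asIdeal = RingHom.ker (killLT k t i) from rfl, RingHom.mem_ker, killLT_X,
        if_neg (show ¬ (a : ℕ) < i from lt_irrefl _)] at h1
      exact X_ne_zero a h1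
  let B := Localization.AtPrime m0
  haveI : IsNoetherianRing B := IsLocalization.isNoetherianRing m0.primeCompl B inferInstance
  have hunit : ∀ y : m0.primeCompl, IsUnit (algebraMap P K y) := fun y =>
    IsUnit.mk0 _ fun h0 => y.2 (by
      rw [show (y : P) = 0 from IsFractionRing.injective P K (h0.trans (map_zero _).symm)]; exact m0.zero_mem)
  letI : Algebra B K := (IsLocalization.lift (S := B) hunit).toAlgebra
  haveI : IsScalarTower P B K := .of_algebraMap_eq fun x => (IsLocalization.lift_eq hunit x).symm
  haveI : IsFractionRing B K := IsFractionRing.isFractionRing_of_isDomain_of_isLocalization m0.primeCompl B K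
  have hB : (t : WithBot ℕ∞) ≤ ringKrullDim B := by
    rw [IsLocalization.AtPrime.ringKrullDim_eq_height m0 B,
      show m0.height = Order.height (⟨m0, hm0.isPrime⟩ : PrimeSpectrum P) from
        PrimeSpectrum.height_eq_orderHeight (⟨m0, hm0.isPrime⟩ : PrimeSpectrum P)]
    exact WithBot.coe_le_coe.2 (Order.length_le_height (p := LTSeries.mk t p hp)
      (x := (⟨m0, hm0.isPrime⟩ : PrimeSpectrum P)) (hle _))
  obtain ⟨M, hM⟩ : ∃ M : ℕ, ringKrullDim B = M := by
    obtain ⟨v, hv⟩ := WithBot.ne_bot_iff_exists.1 (ringKrullDim_ne_bot (R := B))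
    have : v ≠ ⊤ := fun ht => ringKrullDim_ne_top (R := B) (by rw [← hv, ht]; rfl)
    obtain ⟨M, rfl⟩ := ENat.ne_top_iff_exists.1 this
    exact ⟨M, hv.symm⟩
  rw [hM] at hB
  have htM : t ≤ M := by exact_mod_cast hB
  have hℓB : IsUnit (ℓ : B) := by simpa using (IsUnit.mk0 _ hℓk).map (algebraMap k B)
  obtain ⟨h1, h2⟩ := vd_dim M B K ℓ hℓ hℓB (hord.comp (algebraMap k B)) hM d h
  refine ⟨htM.trans h1, vd_mono (show d - M ≤ d - t by omega) ?_⟩
  let ι : k →+* ResidueField B := (residue B).comp (algebraMap k B)
  have hres : ∀ f : P, residue B (algebraMap P B f) = ι (constantCoeff f) := fun f => by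
    rw [← sub_eq_zero]
    have hmem : f - C (constantCoeff f) ∈ m0 :=
      RingHom.mem_ker.2 ((map_sub (constantCoeff (σ := Fin t) (R := k)) _ _).trans
        (sub_eq_zero.2 (constantCoeff_C (Fin t) (constantCoeff f)).symm))
    have := (residue_eq_zero_iff _).2 ((IsLocalization.AtPrime.to_map_mem_maximal_iff B m0 _).2 hmem)
    rw [map_sub, map_sub] at this
    refine Eq.trans ?_ this
    show _ - residue B (algebraMap k B (constantCoeff f)) = _
    rw [IsScalarTower.algebraMap_apply k P B]
    rfl
  have hsurj : Function.Surjective ι := fun z => by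
    obtain ⟨b, rfl⟩ := residue_surjective z
    obtain ⟨⟨x, y⟩, hxy⟩ := IsLocalization.surj m0.primeCompl b
    refine ⟨constantCoeff x / constantCoeff y.1, ?_⟩
    have hy : constantCoeff y.1 ≠ 0 := fun h0 => y.2 (by simpa [m0, RingHom.mem_ker] using h0)
    rw [map_div₀, div_eq_iff ((map_ne_zero ι).2 hy), ← hres, ← hres, ← map_mul, hxy]
  let ε : ResidueField B ≃+* k := (RingEquiv.ofBijective ι ⟨ι.injective, hsurj⟩).symm
  letI : Algebra (ResidueField B) k := ε.toRingHom.toAlgebra
  exact vd_of_ringEquiv ε h2

/-- finitely generated extensions: the lower bound -/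
theorem vd_lower_fg (k k' : Type u) [Field k] [Field k'] [Algebra k k']
    (hfg : ∃ s : Finset k', IntermediateField.adjoin k (s : Set k') = ⊤) {ℓ : ℕ} (hℓ : ℓ.Prime) (hℓk : (ℓ : k) ≠ 0)
    (hord : Hord ℓ k) (t : ℕ) (ht : Algebra.trdeg k k' = t) {d : ℕ} (h : Vd ℓ k' d) :
    t ≤ d ∧ Vd ℓ k (d - t) := by
  obtain ⟨s, hs⟩ := exists_isTranscendenceBasis k k'
  have hfin : s.Finite := Cardinal.lt_aleph0_iff_set_finite.mp (by
    rw [hs.cardinalMk_eq_trdeg, ht]; exact Cardinal.natCast_lt_aleph0)
  haveI := hfin.fintype
  have hcard : Fintype.card s = t := by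
    have := hs.cardinalMk_eq_trdeg
    rw [ht, Cardinal.mk_fintype] at this
    exact_mod_cast this
  let e : Fin t ≃ s := (Fintype.equivFinOfCardEq hcard).symm
  have hx : IsTranscendenceBasis k ((Subtype.val : s → k') ∘ e) := hs.comp_equiv e
  let x : Fin t → k' := (Subtype.val : s → k') ∘ e
  let K := FractionRing (MvPolynomial (Fin t) k)
  have hinj : Function.Injective (MvPolynomial.aeval (R := k) x) := hx.1
  let φ : K →+* k' := IsFractionRing.lift (g := (MvPolynomial.aeval (R := k) x).toRingHom) hinj
  letI : Algebra K k' := φ.toAlgebra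
  haveI : IsScalarTower k K k' := .of_algebraMap_eq fun c => by
    show _ = φ (algebraMap k K c)
    rw [IsScalarTower.algebraMap_apply k (MvPolynomial (Fin t) k) K]
    exact ((IsFractionRing.lift_algebraMap hinj _).trans (AlgHom.commutes _ c)).symm
  have hgen : Algebra.IsAlgebraic K k' := by
    letI : Algebra (MvPolynomial (Fin t) k) k' := (MvPolynomial.aeval (R := k) x).toRingHom.toAlgebra
    haveI : IsScalarTower (MvPolynomial (Fin t) k) K k' :=
      .of_algebraMap_eq fun c => (IsFractionRing.lift_algebraMap hinj c).symm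
    have hmem : (IntermediateField.adjoin k (Set.range x)) ≤ (IsScalarTower.toAlgHom k K k').fieldRange := by
      refine IntermediateField.adjoin_le_iff.2 ?_
      rintro _ ⟨i, rfl⟩
      exact ⟨algebraMap _ K (MvPolynomial.X i), (IsFractionRing.lift_algebraMap hinj _).trans (MvPolynomial.aeval_X _ _)⟩
    haveI := hx.isAlgebraic_field
    refine ⟨fun z => ?_⟩
    let E := IntermediateField.adjoin k (Set.range x)
    let F := (IsScalarTower.toAlgHom k K k').fieldRange
    obtain ⟨q, hq0, hq⟩ := Algebra.IsAlgebraic.isAlgebraic (R := E) z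
    have hF : IsAlgebraic F z := by
      refine ⟨q.map (IntermediateField.inclusion hmem).toRingHom, (Polynomial.map_ne_zero_iff (RingHom.injective _)).2 hq0, ?_⟩
      rw [Polynomial.aeval_def, Polynomial.eval₂_map]
      exact hq
    exact IsAlgebraic.of_ringHom_of_comp_eq
      (RingEquiv.ofBijective (IsScalarTower.toAlgHom k K k').rangeRestrict
        ⟨fun a b h => (algebraMap K k').injective (congrArg Subtype.val h),
          (IsScalarTower.toAlgHom k K k').rangeRestrict_surjective⟩).toRingHom (RingHom.id k') hF
      (RingEquiv.surjective _) Function.injective_id rfl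
  haveI := hgen
  obtain ⟨S, hS⟩ := hfg
  haveI : FiniteDimensional K k' := by
    have h1 : IntermediateField.adjoin K (S : Set k') = ⊤ := by
      refine top_le_iff.1 fun z _ => ?_
      have : IntermediateField.adjoin k (S : Set k') ≤ (IntermediateField.adjoin K (S : Set k')).restrictScalars k :=
        IntermediateField.adjoin_le_iff.2 (IntermediateField.subset_adjoin K _)
      exact this (hS.ge trivial)
    haveI : FiniteDimensional K (IntermediateField.adjoin K (S : Set k')) :=
      IntermediateField.finiteDimensional_adjoin fun z _ => (Algebra.IsAlgebraic.isAlgebraic z).isIntegral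
    exact Module.Finite.equiv ((IntermediateField.equivOfEq h1).trans IntermediateField.topEquiv).toLinearEquiv
  have hℓK : (ℓ : K) ≠ 0 := fun h0 => hℓk ((algebraMap k K).injective (by rw [map_natCast, map_zero, h0]))
  exact vd_of_frac_mvPolynomial k t K hℓ hℓk hord
    (vd_of_finite hℓ K k' hℓK (hord.not_orderable (algebraMap k K)) h)

end Groth.Agent.SerreCd
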