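import Groth.Agent.KrullAki.Valuation
import Groth.Agent.EtDvrCd.Good
import Groth.Agent.SerreCd.Main
import Groth.Agent.EtDvrCd.Lower
import Groth.Agent.EtDvrCd.Upper

/-!
# Normalizations of one dimensional local domains
-/

set_option autoImplicit false
set_option linter.style.haveILetI false
set_option linter.unusedSectionVars false
set_option backward.isDefEq.respectTransparency false
set_option backward.isDefEq.respectTransparency.types false

universe u

open IsLocalRing AlgebraicGeometry

noncomputable section

namespace Groth.Agent.SerreCd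

section dim1

variable (A K : Type u) [CommRing A] [IsDomain A] [IsNoetherianRing A] [IsLocalRing A] [Field K] [Algebra A K]
  [IsFractionRing A K]

theorem dedekind_integralClosure [Ring.KrullDimLE 1 A] : IsDedekindDomain (integralClosure A K) := by
  haveI : IsNoetherianRing (integralClosure A K) := KrullAki.isNoetherianRing_subalgebra _
  haveI : Ring.KrullDimLE 1 (integralClosure A K) := KrullAki.krullDimLE_one_subalgebra _
  haveI := KrullAki.isFractionRing_subalgebra (integralClosure A K)
  haveI : IsIntegrallyClosed (integralClosure A K) := integralClosure.isIntegrallyClosedOfFiniteExtension K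
  exact { maximalOfPrime := fun h hp => Ring.krullDimLE_one_iff_of_noZeroDivisors.1 inferInstance _ h hp }

theorem injective_integralClosure : Function.Injective (algebraMap A (integralClosure A K)) := fun _ _ h =>
  IsFractionRing.injective A K (congrArg Subtype.val h)

theorem ne_bot_of_maximal (hdim : ringKrullDim A = 1) (m : Ideal (integralClosure A K)) [m.IsMaximal] : m ≠ ⊥ := by
  intro h
  subst h
  have hf : IsField (integralClosure A K) := Ring.isField_iff_maximal_bot.2 ‹_›
  have hA : IsField A := isField_of_isIntegral_of_isField (R := A) (S := integralClosure A K)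
    (injective_integralClosure A K) hf
  rw [ringKrullDim_eq_zero_of_isField hA] at hdim
  exact zero_ne_one hdim

theorem finite_quotient (hdim : ringKrullDim A = 1) (m : Ideal (integralClosure A K)) [m.IsMaximal] :
    Module.Finite A (integralClosure A K ⧸ m) := by
  haveI : Ring.KrullDimLE 1 A := KrullAki.krullDimLE_one_of_dim_eq_one hdim
  obtain ⟨a, ha, ham⟩ := KrullAki.exists_algebraMap_mem (integralClosure A K) m (ne_bot_of_maximal A K hdim m)
  obtain ⟨hN, -⟩ := isFiniteLength_iff_isNoetherian_isArtinian.1
    (KrullAki.isFiniteLength_quotient (integralClosure A K) ha)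
  let g : integralClosure A K →ₗ[A] integralClosure A K ⧸ m := (Ideal.Quotient.mkₐ A m).toLinearMap
  open Pointwise in
  have hle : (a • (⊤ : Submodule A (integralClosure A K))) ≤ LinearMap.ker g := fun x hx => by
    obtain ⟨y, _, rfl⟩ := (Submodule.mem_smul_pointwise_iff_exists _ _ _).1 hx
    rw [LinearMap.mem_ker]
    exact Ideal.Quotient.eq_zero_iff_mem.2 (by rw [Algebra.smul_def]; exact m.mul_mem_right _ ham)
  exact Module.Finite.of_surjective (Submodule.liftQ _ g hle) fun x => by
    obtain ⟨x, rfl⟩ := Ideal.Quotient.mk_surjective x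
    exact ⟨Submodule.Quotient.mk x, rfl⟩

/-- a one dimensional local domain is dominated by a discrete valuation ring of its fraction field with
finite residue extension, henselian when the domain is -/
theorem exists_dvr (hdim : ringKrullDim A = 1) :
    ∃ (S : Type u) (_ : CommRing S) (_ : IsDomain S) (_ : IsDiscreteValuationRing S) (_ : Algebra A S)
      (_ : IsLocalHom (algebraMap A S)) (_ : Algebra S K) (_ : IsScalarTower A S K) (_ : IsFractionRing S K),
      Module.Finite A (ResidueField S) ∧ (HenselianLocalRing A → HenselianLocalRing S) := by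
  haveI : Ring.KrullDimLE 1 A := KrullAki.krullDimLE_one_of_dim_eq_one hdim
  haveI := dedekind_integralClosure A K
  haveI := KrullAki.isFractionRing_subalgebra (integralClosure A K)
  obtain ⟨m, hm⟩ := Ideal.exists_maximal (integralClosure A K)
  have hcomap : m.comap (algebraMap A (integralClosure A K)) = maximalIdeal A :=
    IsLocalRing.eq_maximalIdeal (Ideal.isMaximal_comap_of_isIntegral_of_isMaximal m)
  let S := Localization.AtPrime m
  haveI : IsDiscreteValuationRing S :=
    IsLocalization.AtPrime.isDiscreteValuationRing_of_dedekind_domain _ (ne_bot_of_maximal A K hdim m) S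
  have hunit : ∀ y : m.primeCompl, IsUnit (algebraMap (integralClosure A K) K y) := fun y =>
    IsUnit.mk0 _ fun h => y.2 (by
      rw [show (y : integralClosure A K) = 0 from Subtype.ext h]; exact m.zero_mem)
  letI : Algebra S K := (IsLocalization.lift (S := S) hunit).toAlgebra
  haveI : IsScalarTower (integralClosure A K) S K :=
    .of_algebraMap_eq fun x => (IsLocalization.lift_eq hunit x).symm
  haveI : IsFractionRing S K := IsFractionRing.isFractionRing_of_isDomain_of_isLocalization m.primeCompl S K
  haveI : IsScalarTower A S K := .of_algebraMap_eq fun a => by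
    rw [IsScalarTower.algebraMap_apply A (integralClosure A K) S, ← IsScalarTower.algebraMap_apply (integralClosure A K) S K,
      ← IsScalarTower.algebraMap_apply A (integralClosure A K) K]
  haveI hloc : IsLocalHom (algebraMap A S) := by
    refine ((IsLocalRing.local_hom_TFAE (algebraMap A S)).out 0 4).2 ?_
    rw [IsScalarTower.algebraMap_eq A (integralClosure A K) S, ← Ideal.comap_comap]
    exact (congrArg (Ideal.comap _) (IsLocalization.AtPrime.under_maximalIdeal S m)).trans hcomap
  haveI := finite_quotient A K hdim m
  refine ⟨S, inferInstance, inferInstance, inferInstance, inferInstance, hloc, inferInstance, inferInstance,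
    inferInstance, ?_, fun hA => ?_⟩
  · let e : integralClosure A K ⧸ m →ₐ[A] ResidueField S := Ideal.Quotient.liftₐ m
      (IsScalarTower.toAlgHom A (integralClosure A K) (ResidueField S)) fun x hx => by
        show algebraMap (integralClosure A K) (ResidueField S) x = 0
        rw [IsScalarTower.algebraMap_apply _ S, IsLocalRing.ResidueField.algebraMap_eq, residue_eq_zero_iff]
        exact (IsLocalization.AtPrime.to_map_mem_maximal_iff S m x).2 hx
    refine Module.Finite.of_surjective e.toLinearMap fun z => ?_
    obtain ⟨s, rfl⟩ := residue_surjective z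
    obtain ⟨⟨x, y⟩, hxy⟩ := IsLocalization.surj m.primeCompl s
    obtain ⟨y', hy'⟩ := Ideal.Quotient.exists_inv (a := Ideal.Quotient.mk m y.1)
      (fun h => y.2 (Ideal.Quotient.eq_zero_iff_mem.1 h))
    obtain ⟨c, rfl⟩ := Ideal.Quotient.mk_surjective y'
    refine ⟨Ideal.Quotient.mk m (x * c), ?_⟩
    show algebraMap (integralClosure A K) (ResidueField S) (x * c) = residue S s
    have h1 : algebraMap (integralClosure A K) (ResidueField S) (y.1 * c) = 1 := by
      have h := congrArg e hy'
      rwa [← map_mul, map_one] at h
    rw [map_mul] at h1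
    have h2 : algebraMap (integralClosure A K) (ResidueField S) x =
        residue S s * algebraMap (integralClosure A K) (ResidueField S) y.1 := by
      rw [IsScalarTower.algebraMap_apply _ S, ← hxy]
      exact map_mul _ _ _
    rw [map_mul, h2, mul_assoc, h1, mul_one]
  · haveI := hA
    haveI : IsLocalRing (integralClosure A K) := Hensel.isLocalRing_of_isIntegral_domain A _
    haveI : IsLocalHom (algebraMap A (integralClosure A K)) := Hensel.isLocalHom_of_isIntegral_local A _
    haveI : HenselianLocalRing (integralClosure A K) := Hensel.henselianLocalRing_of_isIntegral_local A _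
    have hu : ∀ y : m.primeCompl, IsUnit (y : integralClosure A K) := fun y => by
      by_contra h
      exact y.2 ((SetLike.ext_iff.1 (IsLocalRing.eq_maximalIdeal hm) _).2 ((IsLocalRing.mem_maximalIdeal _).2 h))
    exact AnLocal.henselianLocalRing_of_surjective' (algebraMap (integralClosure A K) S) fun s => by
      obtain ⟨⟨x, y⟩, hxy⟩ := IsLocalization.surj m.primeCompl s
      refine ⟨x * ((hu y).unit⁻¹ : (integralClosure A K)ˣ), ?_⟩
      rw [map_mul, ← hxy, mul_assoc, ← map_mul, IsUnit.mul_val_inv, map_one, mul_one]

end dim1

/-- a one dimensional henselian local domain: the residue field has smaller dimension -/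
theorem vd_residue_of_frac (A K : Type u) [CommRing A] [IsDomain A] [IsNoetherianRing A] [HenselianLocalRing A]
    [Field K] [Algebra A K] [IsFractionRing A K] (hdim : ringKrullDim A = 1) {ℓ : ℕ} (hℓ : ℓ.Prime)
    (hℓA : IsUnit (ℓ : A))
    (hord : ℓ ≠ 2 ∨ ¬ ∃ _ : LinearOrder (ResidueField A), IsStrictOrderedRing (ResidueField A)) {d : ℕ}
    (h : FieldCd.Vd ℓ K (d + 1)) : FieldCd.Vd ℓ (ResidueField A) d := by
  obtain ⟨S, _, _, _, _, _, _, _, _, hfin, hhens⟩ := exists_dvr A K hdim
  haveI := hhens inferInstance
  have hS := EtDvrCd.vd_residue_of_vd S K hℓ (by simpa using hℓA.map (algebraMap A S)) h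
  haveI : Module.Finite (ResidueField A) (ResidueField S) := Module.Finite.of_restrictScalars_finite A _ _
  exact vd_of_finite hℓ (ResidueField A) (ResidueField S) ((hℓA.map (residue A)).ne_zero ∘ fun h0 => by
    rw [map_natCast]; exact h0) hord hS

/-- a one dimensional local domain: the fraction field is not cohomologically trivial -/
theorem not_vd_zero_frac (A K : Type u) [CommRing A] [IsDomain A] [IsNoetherianRing A] [IsLocalRing A]
    [Field K] [Algebra A K] [IsFractionRing A K] (hdim : ringKrullDim A = 1) {ℓ : ℕ} (hℓ : ℓ.Prime)
    (hℓK : (ℓ : K) ≠ 0) : ¬ FieldCd.Vd ℓ K 0 := by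
  obtain ⟨S, _, _, _, _, _, _, _, _, -, -⟩ := exists_dvr A K hdim
  exact EtDvrCd.not_vd_zero S K hℓ hℓK

/-- the quotient by a minimal prime of a local ring of dimension one -/
theorem ringKrullDim_quotient_minimal {A : Type u} [CommRing A] [IsLocalRing A] [IsNoetherianRing A]
    (hdim : ringKrullDim A = 1) {P : Ideal A} (hP : P ∈ minimalPrimes A) : ringKrullDim (A ⧸ P) = 1 := by
  haveI := hP.1.1
  refine le_antisymm ((ringKrullDim_quotient_le P).trans hdim.le) ?_
  haveI : IsLocalRing (A ⧸ P) :=
    .of_surjective' (Ideal.Quotient.mk P) Ideal.Quotient.mk_surjective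
  have hne : maximalIdeal (A ⧸ P) ≠ ⊥ := fun h => by
    have hmax : P.IsMaximal := Ideal.Quotient.maximal_of_isField _ (IsLocalRing.isField_iff_maximalIdeal_eq.2 h)
    have h0 : ringKrullDim A = 0 := by
      rw [← IsLocalRing.maximalIdeal_height_eq_ringKrullDim, ← IsLocalRing.eq_maximalIdeal hmax,
        Ideal.height_eq_zero_iff.2 hP]
      rfl
    rw [hdim] at h0
    exact one_ne_zero h0
  exact Order.one_le_krullDim_iff.2 ⟨⟨⊥, Ideal.bot_prime⟩, ⟨maximalIdeal (A ⧸ P), inferInstance⟩,
    lt_of_le_of_ne (show (⊥ : Ideal (A ⧸ P)) ≤ maximalIdeal (A ⧸ P) from bot_le)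
      fun h => hne (congrArg PrimeSpectrum.asIdeal h).symm⟩

end Groth.Agent.SerreCd
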