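import Groth.Agent.SerreCd.Chain

/-!
# Lower bound for the cohomological dimension of the generic points of a local ring
-/

set_option autoImplicit false
set_option linter.style.haveILetI false
set_option linter.unusedSectionVars false
set_option backward.isDefEq.respectTransparency false
set_option backward.isDefEq.respectTransparency.types false

universe u

open IsLocalRing AlgebraicGeometry

noncomputable section

namespace Groth.Agent.SerreCd

open FieldCd

/-- some generic point of a local ring of dimension `m` dominates the residue field by `m` -/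
theorem exists_minimal_vd (A : Type u) [CommRing A] [IsNoetherianRing A] [IsLocalRing A] {ℓ : ℕ} (hℓ : ℓ.Prime)
    (hℓA : IsUnit (ℓ : A)) (hord : Hord ℓ A) (m : ℕ) (hm : ringKrullDim A = m) (d : ℕ)
    (hd : ∀ (P : Ideal A) [P.IsPrime], P ∈ minimalPrimes A → Vd ℓ (FractionRing (A ⧸ P)) d) :
    m ≤ d ∧ Vd ℓ (ResidueField A) (d - m) := by
  obtain ⟨s, hs⟩ := Order.le_krullDim_iff.1 (show (m : WithBot ℕ∞) ≤ Order.krullDim (PrimeSpectrum A) from hm.ge)
  obtain ⟨P, hP, hPle⟩ := Ideal.exists_minimalPrimes_le (I := (⊥ : Ideal A)) (J := (s.head).asIdeal) bot_le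
  haveI := hP.1.1
  haveI : IsLocalRing (A ⧸ P) := .of_surjective' (Ideal.Quotient.mk P) Ideal.Quotient.mk_surjective
  have hle : ∀ i, P ≤ (s i).asIdeal := fun i => hPle.trans (s.head_le i)
  let t : LTSeries (PrimeSpectrum (A ⧸ P)) := LTSeries.mk s.length
    (fun i => ⟨(s i).asIdeal.map (Ideal.Quotient.mk P),
      Ideal.map_isPrime_of_surjective Ideal.Quotient.mk_surjective (by rw [Ideal.mk_ker]; exact hle i)⟩)
    (fun i j hij => by
      have hlt := (PrimeSpectrum.asIdeal_lt_asIdeal _ _).2 (s.strictMono hij)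
      refine lt_of_le_of_ne (Ideal.map_mono hlt.le) fun he => hlt.ne ?_
      have he' := congrArg (Ideal.comap (Ideal.Quotient.mk P)) (congrArg PrimeSpectrum.asIdeal he)
      simpa [Ideal.comap_map_of_surjective _ Ideal.Quotient.mk_surjective, ← RingHom.ker_eq_comap_bot,
        Ideal.mk_ker, sup_eq_left.2 (hle i), sup_eq_left.2 (hle j)] using he')
  have hdim : ringKrullDim (A ⧸ P) = m := by
    refine le_antisymm ((ringKrullDim_quotient_le P).trans hm.le) ?_
    have h := Order.LTSeries.length_le_krullDim t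
    rw [← hs]
    exact h
  obtain ⟨h1, h2⟩ := vd_dim m (A ⧸ P) (FractionRing (A ⧸ P)) ℓ hℓ (by simpa using hℓA.map (Ideal.Quotient.mk P))
    (hord.comp (Ideal.Quotient.mk P)) hdim d (hd P hP)
  refine ⟨h1, ?_⟩
  haveI : IsLocalHom (Ideal.Quotient.mk P) := IsLocalHom.of_surjective _ Ideal.Quotient.mk_surjective
  let ε : ResidueField (A ⧸ P) ≃+* ResidueField A :=
    (RingEquiv.ofBijective (ResidueField.map (Ideal.Quotient.mk P)) ⟨RingHom.injective _, fun z => by
      obtain ⟨a, rfl⟩ := residue_surjective z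
      obtain ⟨b, rfl⟩ := Ideal.Quotient.mk_surjective a
      exact ⟨residue A b, ResidueField.map_residue _ b⟩⟩).symm
  letI : Algebra (ResidueField (A ⧸ P)) (ResidueField A) := ε.toRingHom.toAlgebra
  exact vd_of_ringEquiv ε h2

end Groth.Agent.SerreCd
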