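import Groth.Agent.SerreCd.LocalDim
import Groth.Agent.CDiv6.Factorial
import Groth.Agent.CycLib.Basic
import Groth.Agent.FDescent.MaxPoint
import Mathlib.RingTheory.Ideal.HasGoingUp
import Mathlib.RingTheory.Ideal.GoingUp
import Mathlib.FieldTheory.IsAlgClosed.AlgebraicClosure

/-!
# The dimension is bounded by the cohomological dimension of the generic points
-/

set_option autoImplicit false
set_option linter.style.haveILetI false
set_option linter.unusedSectionVars false
set_option backward.isDefEq.respectTransparency false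
set_option backward.isDefEq.respectTransparency.types false

universe u

open IsLocalRing AlgebraicGeometry CategoryTheory

noncomputable section

namespace Groth.Agent.SerreCd

open FieldCd

set_option maxHeartbeats 800000 in
theorem dim_le_cover (A : Type u) [CommRing A] [IsDomain A] [IsLocalRing A] (D : Type u) [CommRing D]
    [IsDomain D] [IsNoetherianRing D] [Algebra A D] [Algebra.IsIntegral A D] [FaithfulSMul A D] {ℓ : ℕ}
    (hℓ : ℓ.Prime) (hℓA : IsUnit (ℓ : A)) (hordD : Hord ℓ D) (m : ℕ) (hm : (m : WithBot ℕ∞) ≤ ringKrullDim A) {d : ℕ}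
    (h : Vd ℓ (FractionRing A) d) : m ≤ d := by
  let K := FractionRing A
  obtain ⟨s, hs⟩ := Order.le_krullDim_iff.1 hm
  obtain ⟨P₀, -, hP₀, hover⟩ := Ideal.exists_ideal_over_prime_of_isIntegral (S := D) s.head.asIdeal (⊥ : Ideal D) (by
    rw [← RingHom.ker_eq_comap_bot, (RingHom.injective_iff_ker_eq_bot _).1 (FaithfulSMul.algebraMap_injective A D)]
    exact bot_le)
  haveI : P₀.LiesOver s.head.asIdeal := ⟨hover.symm⟩
  obtain ⟨L, hL, -, -⟩ := Ideal.exists_ltSeries_of_hasGoingUp (S := D) s P₀
  obtain ⟨q, hq, hqle⟩ := Ideal.exists_le_maximal L.last.asIdeal L.last.isPrime.ne_top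
  haveI := hq.isPrime
  let B := Localization.AtPrime q
  haveI : IsNoetherianRing B := IsLocalization.isNoetherianRing q.primeCompl B inferInstance
  have hB : (m : WithBot ℕ∞) ≤ ringKrullDim B := by
    rw [IsLocalization.AtPrime.ringKrullDim_eq_height q B, ← hs, ← hL,
      show q.height = Order.height (⟨q, inferInstance⟩ : PrimeSpectrum D) from
        PrimeSpectrum.height_eq_orderHeight (⟨q, hq.isPrime⟩ : PrimeSpectrum D)]
    exact WithBot.coe_le_coe.2 (Order.length_le_height (x := (⟨q, inferInstance⟩ : PrimeSpectrum D)) hqle)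
  obtain ⟨M, hM⟩ : ∃ M : ℕ, ringKrullDim B = M := by
    obtain ⟨v, hv⟩ := WithBot.ne_bot_iff_exists.1 (ringKrullDim_ne_bot (R := B))
    have : v ≠ ⊤ := fun ht => ringKrullDim_ne_top (R := B) (by rw [← hv, ht]; rfl)
    obtain ⟨M, rfl⟩ := ENat.ne_top_iff_exists.1 this
    exact ⟨M, hv.symm⟩
  rw [hM] at hB
  let E := FractionRing D
  have hunit : ∀ y : q.primeCompl, IsUnit (algebraMap D E y) := fun y =>
    IsUnit.mk0 _ fun h0 => y.2 (by
      rw [show (y : D) = 0 from IsFractionRing.injective D E (h0.trans (map_zero _).symm)]; exact q.zero_mem)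
  letI : Algebra B E := (IsLocalization.lift (S := B) hunit).toAlgebra
  haveI : IsScalarTower D B E := .of_algebraMap_eq fun x => (IsLocalization.lift_eq hunit x).symm
  haveI : IsFractionRing B E := IsFractionRing.isFractionRing_of_isDomain_of_isLocalization q.primeCompl B E
  have hinjE : Function.Injective (algebraMap A E) := by
    rw [IsScalarTower.algebraMap_eq A D E]
    exact (IsFractionRing.injective D E).comp (FaithfulSMul.algebraMap_injective A D)
  letI : Algebra K E := (IsFractionRing.lift (K := K) hinjE).toAlgebra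
  haveI : IsScalarTower A K E := .of_algebraMap_eq fun a => (IsFractionRing.lift_algebraMap hinjE a).symm
  have hD : ∀ x : D, IsAlgebraic K (algebraMap D E x) := fun x =>
    ((Algebra.IsIntegral.isIntegral (R := A) x).map (IsScalarTower.toAlgHom A D E)).tower_top.isAlgebraic
  haveI : Algebra.IsAlgebraic K E := ⟨fun z => by
    obtain ⟨a, b, -, rfl⟩ := IsFractionRing.div_surjective (A := D) z
    rw [div_eq_mul_inv]
    exact (hD a).mul (hD b).inv⟩
  have hord : Hord ℓ B := hordD.comp (algebraMap D B)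
  have hℓB : IsUnit (ℓ : B) := by simpa using hℓA.map (algebraMap A B)
  have := (vd_dim M B E ℓ hℓ hℓB hord hM d (vd_of_isAlgebraic h)).1
  exact le_trans (by exact_mod_cast hB) this

theorem dim_le_domain (A : Type u) [CommRing A] [IsDomain A] [IsNoetherianRing A] [IsLocalRing A] {ℓ : ℕ}
    (hℓ : ℓ.Prime) (hℓA : IsUnit (ℓ : A)) (m : ℕ) (hm : (m : WithBot ℕ∞) ≤ ringKrullDim A) {d : ℕ}
    (h : Vd ℓ (FractionRing A) d) : m ≤ d := by
  let K := FractionRing A
  let Ω := AlgebraicClosure K
  obtain ⟨i, hi⟩ := IsAlgClosed.exists_pow_nat_eq (-1 : Ω) (n := 2) two_pos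
  have hint : IsIntegral A i := ⟨Polynomial.X ^ 2 + 1, by monicity!, by simp [hi]⟩
  let D := Algebra.adjoin A ({i} : Set Ω)
  haveI : Algebra.IsIntegral A D :=
    le_integralClosure_iff_isIntegral.1 (adjoin_le_integralClosure hint)
  haveI : Module.Finite A D := Module.Finite.iff_fg.2 hint.fg_adjoin_singleton
  haveI : IsNoetherianRing D := IsNoetherianRing.of_finite A D
  have hinjΩ : Function.Injective (algebraMap A Ω) := by
    rw [IsScalarTower.algebraMap_eq A K Ω]
    exact (algebraMap K Ω).injective.comp (IsFractionRing.injective A K)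
  haveI : FaithfulSMul A D := (faithfulSMul_iff_algebraMap_injective A D).2
    fun a b hab => hinjΩ (congrArg Subtype.val hab)
  refine dim_le_cover A D hℓ hℓA (fun _ F _ f => ?_) m hm h
  let j : F := f ⟨i, Algebra.self_mem_adjoin_singleton A i⟩
  have hj : j * j = -1 := by
    rw [← map_mul, show (⟨i, _⟩ : D) * ⟨i, _⟩ = -1 from Subtype.ext (by
      show i * i = -1
      rw [← sq, hi]), map_neg, map_one]
  rw [← hj]
  exact IsSumSq.mul_self j

/-- the fraction fields at the minimal primes of a local ring of a scheme are residue fields of maximal points -/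
theorem vd_minimal_stalk (X : Scheme.{u}) {ℓ d : ℕ}
    (hd : ∀ x : X, closure {x} ∈ irreducibleComponents (X : Type u) → Vd ℓ (X.residueField x) d) (y : X)
    (P : Ideal (X.presheaf.stalk y)) [P.IsPrime] (hP : P ∈ minimalPrimes (X.presheaf.stalk y)) :
    Vd ℓ (FractionRing (X.presheaf.stalk y ⧸ P)) d := by
  let O := X.presheaf.stalk y
  let Q : PrimeSpectrum O := ⟨P, hP.1.1⟩
  let x := X.fromSpecStalk y Q
  have hxy : x ⤳ y := CDiv6.fromSpecStalk_specializes Q
  have hmax : ∀ z, z ⤳ x → z = x := fun z hz => by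
    have h1 : CDiv6.primeOf (hz.trans hxy) ≤ Q := by
      refine (PrimeSpectrum.le_iff_specializes _ _).2 ((X.fromSpecStalk y).isEmbedding.isInducing.specializes_iff.1 ?_)
      exact (CDiv6.fromSpecStalk_primeOf (hz.trans hxy)).symm ▸ hz
    have h2 : CDiv6.primeOf (hz.trans hxy) = Q :=
      le_antisymm h1 (show P ≤ _ from hP.2 ⟨(CDiv6.primeOf (hz.trans hxy)).isPrime, bot_le⟩ h1)
    exact (CDiv6.fromSpecStalk_primeOf (hz.trans hxy)).symm.trans (congrArg (X.fromSpecStalk y) h2)
  have hker : RingHom.ker (Cyc.specMap y x hxy) = P := by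
    rw [CycLib.ker_specMap]
    exact congrArg PrimeSpectrum.asIdeal (CDiv6.primeOf_fromSpecStalk Q)
  haveI := isFractionRing_locQuot hxy
  haveI : (RingHom.ker (Cyc.specMap y x hxy)).IsPrime := RingHom.ker_isPrime _
  let ε : X.residueField x ≃+* FractionRing (O ⧸ P) :=
    (IsFractionRing.ringEquivOfRingEquiv (Ideal.quotEquivOfEq hker.symm) :
      FractionRing (O ⧸ P) ≃+* X.residueField x).symm
  letI : Algebra (X.residueField x) (FractionRing (O ⧸ P)) := ε.toRingHom.toAlgebra
  have hv := vd_of_ringEquiv ε (hd x (FDescent.closure_mem_irreducibleComponents hmax))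
  exact hv

/-- the dimension of a noetherian scheme -/
theorem topologicalKrullDim_le (X : Scheme.{u}) [IsNoetherian X] {ℓ : ℕ} (hℓ : ℓ.Prime)
    (hℓX : ∀ y : X, IsUnit (ℓ : X.presheaf.stalk y)) {d : ℕ}
    (hd : ∀ x : X, closure {x} ∈ irreducibleComponents (X : Type u) → Vd ℓ (X.residueField x) d) :
    topologicalKrullDim X ≤ d := by
  rw [topologicalKrullDim, Order.krullDim_eq_of_orderIso (irreducibleSetEquivPoints (α := X))]
  refine iSup_le fun s => ?_
  let y := s.head
  let O := X.presheaf.stalk y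
  have hc : (s.length : WithBot ℕ∞) ≤ ringKrullDim O := by
    rw [ringKrullDim_stalk_eq_coheight]
    exact WithBot.coe_le_coe.2 (Order.length_le_coheight_head (p := s))
  obtain ⟨t, ht⟩ := Order.le_krullDim_iff.1 hc
  obtain ⟨P, hP, hPle⟩ := Ideal.exists_minimalPrimes_le (I := (⊥ : Ideal O)) (J := t.head.asIdeal) bot_le
  haveI := hP.1.1
  haveI : IsLocalRing (O ⧸ P) := .of_surjective' (Ideal.Quotient.mk P) Ideal.Quotient.mk_surjective
  have hle : ∀ i, P ≤ (t i).asIdeal := fun i => hPle.trans (t.head_le i)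
  let t' : LTSeries (PrimeSpectrum (O ⧸ P)) := LTSeries.mk t.length
    (fun i => ⟨(t i).asIdeal.map (Ideal.Quotient.mk P),
      Ideal.map_isPrime_of_surjective Ideal.Quotient.mk_surjective (by rw [Ideal.mk_ker]; exact hle i)⟩)
    (fun i j hij => by
      have hlt := (PrimeSpectrum.asIdeal_lt_asIdeal _ _).2 (t.strictMono hij)
      refine lt_of_le_of_ne (Ideal.map_mono hlt.le) fun he => hlt.ne ?_
      have he' := congrArg (Ideal.comap (Ideal.Quotient.mk P)) (congrArg PrimeSpectrum.asIdeal he)
      simpa [Ideal.comap_map_of_surjective _ Ideal.Quotient.mk_surjective, ← RingHom.ker_eq_comap_bot,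
        Ideal.mk_ker, sup_eq_left.2 (hle i), sup_eq_left.2 (hle j)] using he')
  have hdim : (s.length : WithBot ℕ∞) ≤ ringKrullDim (O ⧸ P) := by
    rw [← ht]
    exact Order.LTSeries.length_le_krullDim t'
  have hv : Vd ℓ (FractionRing (O ⧸ P)) d := vd_minimal_stalk X hd y P hP
  have := dim_le_domain (O ⧸ P) hℓ (by simpa using (hℓX y).map (Ideal.Quotient.mk P)) s.length hdim hv
  exact_mod_cast this

end Groth.Agent.SerreCd
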