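import Groth.Agent.SerreCd.Dominate
import Groth.Agent.DimFormula.Stalk
import Groth.Agent.FieldCd.FiniteType
import Groth.Agent.S0603

/-!
# Generic points of strict localizations over a base of dimension at most one
-/

set_option autoImplicit false
set_option linter.style.haveILetI false
set_option linter.unusedSectionVars false
set_option backward.isDefEq.respectTransparency false
set_option backward.isDefEq.respectTransparency.types false

universe u

open IsLocalRing AlgebraicGeometry CategoryTheory Cardinal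

noncomputable section

namespace Groth.Agent.SerreCd

open FieldCd

theorem specMap_naturality {X Y : Scheme.{u}} (f : X ⟶ Y) {x z : X} (hzx : z ⤳ x) (a : Y.presheaf.stalk (f x)) :
    Cyc.specMap x z hzx ((f.stalkMap x).hom a) =
      (f.residueFieldMap z).hom (Cyc.specMap (f x) (f z) (hzx.map f.continuous) a) := by
  have h : (Y.presheaf.stalkSpecializes (hzx.map f.continuous) ≫ Y.residue (f z)) ≫ f.residueFieldMap z =
      f.stalkMap x ≫ X.presheaf.stalkSpecializes hzx ≫ X.residue z := by
    rw [Category.assoc, Scheme.residue_residueFieldMap, ← Category.assoc, Scheme.Hom.stalkSpecializes_stalkMap f _ _ hzx,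
      Category.assoc]
  exact (congrArg (fun φ => φ.hom a) h).symm

set_option maxHeartbeats 1000000 in
theorem vd_frac_base {X Y : Scheme.{u}} [IsLocallyNoetherian Y] (f : X ⟶ Y) [LocallyOfFiniteType f] {x z : X}
    (hzx : z ⤳ x) [IsPrincipalIdealRing (Y.presheaf.stalk (f x))]
    (hcat : CAlg.IsUniversallyCatenary (Y.presheaf.stalk (f x)))
    (hdim : ringKrullDim (Y.presheaf.stalk (f x)) ≤ 1) {ℓ : ℕ} (hℓ : ℓ.Prime)
    (hℓY : IsUnit (ℓ : Y.presheaf.stalk (f x)))
    (R : Type u) [CommRing R] [IsLocalRing R]
    [Algebra (X.presheaf.stalk x) R] [IsLocalHom (algebraMap (X.presheaf.stalk x) R)]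
    [_root_.Hensel.IsStrictHenselization (X.presheaf.stalk x) R] (P : Ideal R) [P.IsPrime]
    (hP : P ∈ ((RingHom.ker (Cyc.specMap x z hzx)).map (algebraMap (X.presheaf.stalk x) R)).minimalPrimes) :
    Vd ℓ (FractionRing (R ⧸ P)) (DimFormula.cd z x) := by
  classical
  haveI : HenselianLocalRing R := _root_.Hensel.IsStrictHenselization.henselian (R := X.presheaf.stalk x)
  haveI : IsSepClosed (ResidueField R) :=
    (_root_.Hensel.IsStrictHenselization.isSepClosure (R := X.presheaf.stalk x) (S := R)).sep_closed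
  let O := X.presheaf.stalk x
  let Ay := Y.presheaf.stalk (f x)
  let hyp : f z ⤳ f x := hzx.map f.continuous
  let A := Cyc.LocQuot (f x) (f z) hyp
  haveI : (RingHom.ker (Cyc.specMap (f x) (f z) hyp)).IsPrime := RingHom.ker_isPrime _
  haveI : IsLocalRing A := .of_surjective' (Ideal.Quotient.mk _) Ideal.Quotient.mk_surjective
  haveI : IsPrincipalIdealRing A := .of_surjective (Ideal.Quotient.mk _) Ideal.Quotient.mk_surjective
  haveI : IsFractionRing A (Y.residueField (f z)) := isFractionRing_locQuot hyp
  let T := R ⧸ P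
  let F := FractionRing T
  haveI : HenselianLocalRing T :=
    AnLocal.henselianLocalRing_of_surjective' (Ideal.Quotient.mk P) Ideal.Quotient.mk_surjective
  haveI : IsLocalHom (Ideal.Quotient.mk P) := IsLocalHom.of_surjective _ Ideal.Quotient.mk_surjective
  haveI : IsSepClosed (ResidueField T) := EtCdFun.isSepClosed_of_equiv
    (RingEquiv.ofBijective (ResidueField.map (Ideal.Quotient.mk P))
      ⟨RingHom.injective _, fun z => by
        obtain ⟨a, rfl⟩ := residue_surjective z
        obtain ⟨b, rfl⟩ := Ideal.Quotient.mk_surjective a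
        exact ⟨residue R b, ResidueField.map_residue _ b⟩⟩)
  obtain ⟨j, hj, halg⟩ := exists_frac_algebraic hzx R P hP
  let g0 : O →+* T := (Ideal.Quotient.mk P).comp (algebraMap O R)
  have hg0 : ∀ a, algebraMap T F (g0 ((f.stalkMap x).hom a)) =
      j ((f.residueFieldMap z).hom (Cyc.specMap (f x) (f z) hyp a)) := fun a => by
    rw [← specMap_naturality f hzx a, hj]
    rfl
  let ι : A →+* T := Ideal.Quotient.lift _ (g0.comp (f.stalkMap x).hom) fun a ha =>
    IsFractionRing.injective T F ((hg0 a).trans (by
      rw [RingHom.mem_ker.1 ha, map_zero, map_zero, map_zero]))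
  letI : Algebra A F := ((algebraMap T F).comp ι).toAlgebra
  have hAF : ∀ a : Ay, algebraMap A F (Ideal.Quotient.mk _ a) =
      j ((f.residueFieldMap z).hom (Cyc.specMap (f x) (f z) hyp a)) := hg0
  have hι : Function.Injective ι := (RingHom.injective_iff_ker_eq_bot _).2 (eq_bot_iff.2 fun a ha => by
    obtain ⟨a, rfl⟩ := Ideal.Quotient.mk_surjective a
    have h1 : algebraMap A F (Ideal.Quotient.mk _ a) = 0 := by
      show algebraMap T F (ι (Ideal.Quotient.mk _ a)) = 0
      rw [RingHom.mem_ker.1 ha, map_zero]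
    rw [hAF] at h1
    exact Ideal.Quotient.eq_zero_iff_mem.2 (RingHom.mem_ker.2 ((map_eq_zero _).1 ((map_eq_zero _).1 h1))))
  haveI : IsLocalHom ι := ⟨fun a ha => by
    obtain ⟨a, rfl⟩ := Ideal.Quotient.mk_surjective a
    exact (IsUnit.of_map (f.stalkMap x).hom a (IsUnit.of_map (algebraMap O R) _
      (IsUnit.of_map (Ideal.Quotient.mk P) _ ha))).map _⟩
  -- lifts of a transcendence basis
  letI : Algebra (Y.residueField (f x)) (X.residueField x) := (f.residueFieldMap x).hom.toAlgebra
  obtain ⟨s, hs⟩ := exists_isTranscendenceBasis (Y.residueField (f x)) (X.residueField x)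
  have hcard : Cardinal.mk s = (FibDim.rd f x : Cardinal.{u}) :=
    hs.cardinalMk_eq_trdeg.trans (FibDim.rd_eq_rdeg f x).symm
  haveI : Fintype s := (Cardinal.lt_aleph0_iff_set_finite.1 (hcard.trans_lt natCast_lt_aleph0)).fintype
  have hn : Fintype.card s = FibDim.rd f x := by
    have := hcard
    rw [Cardinal.mk_fintype] at this
    exact_mod_cast this
  let ε : Fin (FibDim.rd f x) ≃ s := (Fintype.equivFinOfCardEq hn).symm
  choose t ht using fun i : Fin (FibDim.rd f x) => X.residue_surjective x (ε i).1
  let gbar : X.residueField x →+* ResidueField T := ResidueField.map g0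
  haveI : IsLocalHom g0 := RingHom.isLocalHom_comp _ _
  haveI : IsLocalHom (Ideal.Quotient.mk (RingHom.ker (Cyc.specMap (f x) (f z) hyp))) :=
    IsLocalHom.of_surjective _ Ideal.Quotient.mk_surjective
  let q0 : Y.residueField (f x) →+* ResidueField A := ResidueField.map (Ideal.Quotient.mk _)
  have hq0 : Function.Surjective q0 := fun w => by
    obtain ⟨a, rfl⟩ := residue_surjective w
    obtain ⟨b, rfl⟩ := Ideal.Quotient.mk_surjective a
    exact ⟨residue Ay b, ResidueField.map_residue _ b⟩
  have hcomp : (ResidueField.map ι).comp q0 = gbar.comp (f.residueFieldMap x).hom := by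
    refine RingHom.ext fun w => ?_
    obtain ⟨b, rfl⟩ := residue_surjective w
    rfl
  have hind : ∀ G : MvPolynomial (Fin (FibDim.rd f x)) (ResidueField A),
      MvPolynomial.eval₂ (ResidueField.map ι) (fun i => residue T (g0 (t i))) G = 0 → G = 0 := fun G hG => by
    obtain ⟨G, rfl⟩ := MvPolynomial.map_surjective q0 hq0 G
    rw [MvPolynomial.eval₂_map, hcomp] at hG
    have hfun : (fun i => residue T (g0 (t i))) = gbar ∘ fun i => (ε i).1 := funext fun i => by
      show _ = gbar (ε i).1
      rw [← ht i]
      rfl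
    rw [hfun, ← MvPolynomial.eval₂_comp_left gbar] at hG
    have h2 := (algebraicIndependent_iff_injective_aeval.1 (hs.1.comp ε ε.injective))
      (((map_eq_zero gbar).1 hG).trans (map_zero (MvPolynomial.aeval _)).symm : MvPolynomial.aeval _ G = _)
    rw [h2, map_zero]
  -- dimensions
  obtain ⟨-, hformula⟩ := DimFormula.cd_formula f hzx
  have hform := hformula hcat
  have hdimA : ringKrullDim A = (DimFormula.cd (f z) (f x) : WithBot ℕ∞) := by
    have hker : RingHom.ker (Cyc.specMap (f x) (f z) hyp) = (CDiv6.primeOf hyp).asIdeal := CycLib.ker_specMap hyp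
    rw [show ringKrullDim A = ringKrullDim (Ay ⧸ (CDiv6.primeOf hyp).asIdeal) from
      ringKrullDim_eq_of_ringEquiv (Ideal.quotEquivOfEq hker), DimFormula.ringKrullDim_stalk_quotient,
      CDiv6.fromSpecStalk_primeOf]
  have he : DimFormula.cd (f z) (f x) ≤ 1 := by
    have h := ((ringKrullDim_quotient_le (RingHom.ker (Cyc.specMap (f x) (f z) hyp))).trans hdim :
      ringKrullDim A ≤ 1)
    rw [hdimA] at h
    exact_mod_cast h
  have htr : Algebra.trdeg A F ≤ ((FibDim.rd f z : ℕ) : Cardinal.{u}) := by
    letI : Algebra (Y.residueField (f z)) (X.residueField z) := (f.residueFieldMap z).hom.toAlgebra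
    letI : Algebra (X.residueField z) F := j.toAlgebra
    haveI : Algebra.IsAlgebraic (X.residueField z) F := halg
    letI : Algebra (Y.residueField (f z)) F := (j.comp (f.residueFieldMap z).hom).toAlgebra
    haveI : IsScalarTower (Y.residueField (f z)) (X.residueField z) F := .of_algebraMap_eq fun _ => rfl
    haveI : IsScalarTower A (Y.residueField (f z)) F := .of_algebraMap_eq fun a => by
      obtain ⟨a, rfl⟩ := Ideal.Quotient.mk_surjective a
      exact hAF a
    haveI : Algebra.IsAlgebraic A (Y.residueField (f z)) := (IsFractionRing.comap_isAlgebraic_iff (A := A) (K := Y.residueField (f z)) (C := Y.residueField (f z))).2 inferInstance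
    have h1 : Algebra.trdeg A (Y.residueField (f z)) + Algebra.trdeg (Y.residueField (f z)) F = Algebra.trdeg A F :=
      trdeg_add_eq A (Y.residueField (f z))
    rw [trdeg_eq_zero (R := A), zero_add] at h1
    have h2 : Algebra.trdeg (Y.residueField (f z)) (X.residueField z) + Algebra.trdeg (X.residueField z) F =
        Algebra.trdeg (Y.residueField (f z)) F := trdeg_add_eq _ _
    rw [trdeg_eq_zero (R := X.residueField z), add_zero] at h2
    exact (h1.symm.trans h2.symm).trans_le (FibDim.rd_eq_rdeg f z).ge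
  obtain ⟨b, hb, this⟩ := vd_frac_of_residue_indep A T ι hι F (fun _ => rfl) hℓ
    (by simpa using hℓY.map (Ideal.Quotient.mk (RingHom.ker (Cyc.specMap (f x) (f z) hyp))))
    hdimA.le he (fun i => g0 (t i)) hind htr
  exact vd_mono (by omega) this

/-- the cohomological dimension of the generic points of a strict localization -/
theorem cd_strictLocalization {X Y : Scheme.{u}} [IsLocallyNoetherian Y] (f : X ⟶ Y) [LocallyOfFiniteType f] (x : X)
    [IsPrincipalIdealRing (Y.presheaf.stalk (f x))]
    (hcat : CAlg.IsUniversallyCatenary (Y.presheaf.stalk (f x)))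
    (hdim : ringKrullDim (Y.presheaf.stalk (f x)) ≤ 1) {ℓ : ℕ} (hℓ : ℓ.Prime)
    (hℓY : IsUnit (ℓ : Y.presheaf.stalk (f x)))
    (R : Type u) [CommRing R] [IsLocalRing R]
    [Algebra (X.presheaf.stalk x) R] [IsLocalHom (algebraMap (X.presheaf.stalk x) R)]
    [_root_.Hensel.IsStrictHenselization (X.presheaf.stalk x) R] (d : ℕ) :
    (∀ P ∈ minimalPrimes R, Dix.CohDimLEAt (Spec (CommRingCat.of (FractionRing (R ⧸ P)))) ℓ d) ↔
      ringKrullDim R ≤ d := by
  haveI : IsLocallyNoetherian X := LocallyOfFiniteType.isLocallyNoetherian f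
  let O := X.presheaf.stalk x
  haveI : IsNoetherianRing R := (Groth.Agent.S0540.result O R).1 inferInstance
  have hℓR : IsUnit (ℓ : R) := by
    simpa using (hℓY.map (f.stalkMap x).hom).map (algebraMap O R)
  have hR : ringKrullDim R = (DimFormula.codim x : WithBot ℕ∞) :=
    (Groth.Agent.S0541.result O R).trans (DimFormula.ringKrullDim_stalk x)
  constructor
  · intro h
    rw [hR]
    obtain ⟨s, hs⟩ := Order.le_krullDim_iff.1
      (show ((DimFormula.codim x : ℕ) : WithBot ℕ∞) ≤ Order.krullDim (PrimeSpectrum R) from hR.ge)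
    obtain ⟨P, hP, hPle⟩ := Ideal.exists_minimalPrimes_le (I := (⊥ : Ideal R)) (J := (s.head).asIdeal) bot_le
    haveI := hP.1.1
    haveI : IsLocalRing (R ⧸ P) := .of_surjective' (Ideal.Quotient.mk P) Ideal.Quotient.mk_surjective
    have hle : ∀ i, P ≤ (s i).asIdeal := fun i => hPle.trans (s.head_le i)
    let t : LTSeries (PrimeSpectrum (R ⧸ P)) := LTSeries.mk s.length
      (fun i => ⟨(s i).asIdeal.map (Ideal.Quotient.mk P),
        Ideal.map_isPrime_of_surjective Ideal.Quotient.mk_surjective (by rw [Ideal.mk_ker]; exact hle i)⟩)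
      (fun i j hij => by
        have hlt := (PrimeSpectrum.asIdeal_lt_asIdeal _ _).2 (s.strictMono hij)
        refine lt_of_le_of_ne (Ideal.map_mono hlt.le) fun he => hlt.ne ?_
        have he' := congrArg (Ideal.comap (Ideal.Quotient.mk P)) (congrArg PrimeSpectrum.asIdeal he)
        simpa [Ideal.comap_map_of_surjective _ Ideal.Quotient.mk_surjective, ← RingHom.ker_eq_comap_bot,
          Ideal.mk_ker, sup_eq_left.2 (hle i), sup_eq_left.2 (hle j)] using he')
    have hdim' : ((DimFormula.codim x : ℕ) : WithBot ℕ∞) ≤ ringKrullDim (R ⧸ P) := by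
      rw [← hs]
      exact Order.LTSeries.length_le_krullDim t
    have := dim_le_domain (R ⧸ P) hℓ (by simpa using hℓR.map (Ideal.Quotient.mk P)) _ hdim'
      (vanAbove_of_cohDimLEAt (h P hP))
    exact_mod_cast this
  · intro h P hP
    haveI := hP.1.1
    refine cohDimLEAt_of_vanAbove hℓ ?_
    let Q : PrimeSpectrum O := ⟨P.comap (algebraMap O R), inferInstance⟩
    let z := X.fromSpecStalk x Q
    have hzx : z ⤳ x := CDiv6.fromSpecStalk_specializes Q
    have hker : RingHom.ker (Cyc.specMap x z hzx) = P.comap (algebraMap O R) := by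
      rw [CycLib.ker_specMap]
      exact congrArg PrimeSpectrum.asIdeal (CDiv6.primeOf_fromSpecStalk Q)
    have hP' : P ∈ ((RingHom.ker (Cyc.specMap x z hzx)).map (algebraMap O R)).minimalPrimes := by
      rw [hker]
      exact ⟨⟨hP.1.1, Ideal.map_comap_le⟩, fun J hJ hJP => hP.2 ⟨hJ.1, bot_le⟩ hJP⟩
    rw [hR] at h
    have hbd : DimFormula.codim x ≤ d := by exact_mod_cast h
    exact vd_mono ((DimFormula.cd_le_codim hzx).trans hbd) (vd_frac_base f hzx hcat hdim hℓ hℓY R P hP')

end Groth.Agent.SerreCd
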