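import Groth.Agent.SerreCd.Dim
import Groth.Agent.EtCdFun.Codim
import Groth.Agent.EtCdFun.Main

/-!
# The dimension function `c + m - 2 codim`
-/

set_option autoImplicit false
set_option linter.style.haveILetI false
set_option linter.unusedSectionVars false
set_option backward.isDefEq.respectTransparency false
set_option backward.isDefEq.respectTransparency.types false

universe u

open IsLocalRing AlgebraicGeometry CategoryTheory

noncomputable section

namespace Groth.Agent.SerreCd

open FieldCd

theorem dim_stalk_le (X : Scheme.{u}) {m : ℕ} (hm : topologicalKrullDim X ≤ m) {y : X} {c : ℕ}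
    (hc : ringKrullDim (X.presheaf.stalk y) = c) : c ≤ m := by
  have h : ringKrullDim (X.presheaf.stalk y) ≤ topologicalKrullDim X := by
    rw [ringKrullDim_stalk_eq_coheight, topologicalKrullDim,
      Order.krullDim_eq_of_orderIso (irreducibleSetEquivPoints (α := X))]
    exact Order.coheight_le_krullDim y
  have := h.trans hm
  rw [hc] at this
  exact_mod_cast this

theorem vd_residueField_bound (X : Scheme.{u}) [IsNoetherian X] {ℓ : ℕ} (hℓ : ℓ.Prime)
    (hℓX : ∀ y : X, IsUnit (ℓ : X.presheaf.stalk y)) (hord : ∀ y : X, Hord ℓ (X.presheaf.stalk y)) {c : ℕ}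
    (hc : ∀ x : X, closure {x} ∈ irreducibleComponents (X : Type u) → Vd ℓ (X.residueField x) c) (x : X) {h : ℕ}
    (hh : ringKrullDim (X.presheaf.stalk x) = h) : h ≤ c ∧ Vd ℓ (X.residueField x) (c - h) :=
  exists_minimal_vd (X.presheaf.stalk x) hℓ (hℓX x) (hord x) h hh c fun P _ hP => vd_minimal_stalk X hc x P hP

theorem hord_stalk (X : Scheme.{u}) {ℓ : ℕ}
    (hord : ℓ ≠ 2 ∨ ∀ x : X, ¬ ∃ _ : LinearOrder (X.residueField x), IsStrictOrderedRing (X.residueField x))
    (y : X) : Hord ℓ (X.presheaf.stalk y) := by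
  intro h2 F _ f
  let Q : PrimeSpectrum (X.presheaf.stalk y) := ⟨RingHom.ker f, RingHom.ker_isPrime f⟩
  let x := X.fromSpecStalk y Q
  have hxy : x ⤳ y := CDiv6.fromSpecStalk_specializes Q
  have hker : RingHom.ker (Cyc.specMap y x hxy) = RingHom.ker f := by
    rw [CycLib.ker_specMap]
    exact congrArg PrimeSpectrum.asIdeal (CDiv6.primeOf_fromSpecStalk Q)
  haveI := isFractionRing_locQuot hxy
  let g : Cyc.LocQuot y x hxy →+* F := Ideal.Quotient.lift _ f fun a ha => by
    rw [hker] at ha
    exact ha
  have hg : Function.Injective g := by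
    rw [RingHom.injective_iff_ker_eq_bot, eq_bot_iff]
    intro a ha
    obtain ⟨a, rfl⟩ := Ideal.Quotient.mk_surjective a
    exact Ideal.Quotient.eq_zero_iff_mem.2 (hker ▸ ha)
  have h1 : IsSumSq (-1 : X.residueField x) := by
    by_contra hns
    exact hord.elim (fun h => h h2) (fun h => h x (exists_linearOrder hns))
  have h3 := isSumSq_map (IsFractionRing.lift (A := Cyc.LocQuot y x hxy) (K := X.residueField x) hg) h1
  rwa [map_neg, map_one] at h3

end Groth.Agent.SerreCd
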