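import Groth.Agent.SerreCd.Normalization
import Groth.Agent.S0506
import Groth.Agent.S0508
import Groth.Agent.S0511
import Groth.Agent.S0512
import Groth.Agent.S0515
import Groth.Agent.FieldCd.StrictLoc
import Mathlib.RingTheory.Ideal.KrullsHeightTheorem

/-!
# The cohomological dimension drops along chains of primes
-/

set_option autoImplicit false
set_option linter.style.haveILetI false
set_option linter.unusedSectionVars false
set_option backward.isDefEq.respectTransparency false
set_option backward.isDefEq.respectTransparency.types false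

universe u

open IsLocalRing AlgebraicGeometry

noncomputable section

namespace Groth.Agent.SerreCd

open FieldCd

/-- no field receiving the ring can be ordered, in case `ℓ = 2` -/
def Hord (ℓ : ℕ) (A : Type u) [CommRing A] : Prop :=
  ℓ = 2 → ∀ (F : Type u) [Field F], (A →+* F) → IsSumSq (-1 : F)

theorem Hord.comp {ℓ : ℕ} {A B : Type u} [CommRing A] [CommRing B] (h : Hord ℓ A) (f : A →+* B) : Hord ℓ B :=
  fun h2 F _ g => h h2 F (g.comp f)

theorem Hord.not_orderable {ℓ : ℕ} {A : Type u} [CommRing A] (h : Hord ℓ A) {F : Type u} [Field F] (f : A →+* F) :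
    ℓ ≠ 2 ∨ ¬ ∃ _ : LinearOrder F, IsStrictOrderedRing F := by
  refine or_iff_not_imp_left.2 fun h2 => ?_
  rintro ⟨o, ho⟩
  letI := o
  haveI := ho
  exact IsSemireal.not_isSumSq_neg_one F (h (not_not.1 h2) F f)

/-- a field in which `-1` is not a sum of squares is detected by the orderings of the residue fields -/
theorem hord_of_residue {ℓ : ℕ} {A : Type u} [CommRing A]
    (h : ℓ ≠ 2 ∨ ∀ p : PrimeSpectrum A, ¬ ∃ _ : LinearOrder (FractionRing (A ⧸ p.asIdeal)),
      IsStrictOrderedRing (FractionRing (A ⧸ p.asIdeal))) : Hord ℓ A := by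
  intro h2 F _ f
  let p : PrimeSpectrum A := ⟨RingHom.ker f, RingHom.ker_isPrime f⟩
  haveI : p.asIdeal.IsPrime := p.isPrime
  have h1 : IsSumSq (-1 : FractionRing (A ⧸ p.asIdeal)) := by
    by_contra hns
    exact h.elim (fun h' => h' h2) (fun h' => h' p (exists_linearOrder hns))
  have hinj : Function.Injective (RingHom.kerLift f) := RingHom.kerLift_injective f
  have h3 := isSumSq_map (IsFractionRing.lift (A := A ⧸ p.asIdeal) (K := FractionRing (A ⧸ p.asIdeal))
    (g := RingHom.kerLift f) hinj) h1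
  rwa [map_neg, map_one] at h3

/-- the residue field of a discrete valuation ring has smaller cohomological dimension -/
theorem vd_residue_dvr (S K : Type u) [CommRing S] [IsDomain S] [IsDiscreteValuationRing S] [Field K] [Algebra S K]
    [IsFractionRing S K] {ℓ : ℕ} (hℓ : ℓ.Prime) (hℓS : IsUnit (ℓ : S)) {d : ℕ} (h : Vd ℓ K d) :
    1 ≤ d ∧ Vd ℓ (ResidueField S) (d - 1) := by
  have hℓK : (ℓ : K) ≠ 0 := by simpa using (hℓS.map (algebraMap S K)).ne_zero
  have h1 : 1 ≤ d := Nat.one_le_iff_ne_zero.2 fun h0 => EtDvrCd.not_vd_zero S K hℓ hℓK (h0 ▸ h)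
  obtain ⟨H, _, _, _, _, hH⟩ := S0506.result S
  haveI : HenselianLocalRing H := hH.henselian
  haveI : IsNoetherianRing H := (S0511.result S H).1 inferInstance
  obtain ⟨hdom, -⟩ := (S0515.result S H).1 ⟨inferInstance, inferInstance⟩
  haveI := hdom
  have hdim : ringKrullDim H = 1 := by rw [S0512.result S H, IsDiscreteValuationRing.ringKrullDim_eq_one S]
  have hnf : ¬ IsField H := fun hf => by
    rw [ringKrullDim_eq_zero_of_isField hf] at hdim
    exact zero_ne_one hdim
  haveI : IsDiscreteValuationRing H := by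
    obtain ⟨π, hπ⟩ := IsDiscreteValuationRing.exists_irreducible S
    refine ((IsDiscreteValuationRing.TFAE H hnf).out 4 0).1 ?_
    refine ⟨⟨algebraMap S H π, ?_⟩⟩
    show maximalIdeal H = Ideal.span {algebraMap S H π}
    rw [← Hensel.map_maximalIdeal_of_isHenselization (R := S) (S := H), hπ.maximalIdeal_eq, Ideal.map_span,
      Set.image_singleton]
  let E := FractionRing H
  have hinjH : Function.Injective (algebraMap S H) := by
    haveI := Hensel.faithfullyFlat_of_isHenselization (R := S) (S := H)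
    exact FaithfulSMul.algebraMap_injective S H
  have hinj : Function.Injective (algebraMap S E) := by
    rw [IsScalarTower.algebraMap_eq S H E]
    exact (IsFractionRing.injective H E).comp hinjH
  letI : Algebra K E := (IsFractionRing.lift (K := K) hinj).toAlgebra
  haveI : IsScalarTower S K E := .of_algebraMap_eq fun s => (IsFractionRing.lift_algebraMap hinj s).symm
  obtain ⟨e⟩ := Hensel.exists_algEquiv_localHenz S H
  haveI : Algebra.IsAlgebraic K E := ⟨fun z => by
    obtain ⟨a, b, -, rfl⟩ := IsFractionRing.div_surjective (A := H) z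
    rw [div_eq_mul_inv]
    exact ((isIntegral_image e (IsScalarTower.toAlgHom S H E) a).isAlgebraic).mul
      (isIntegral_image e (IsScalarTower.toAlgHom S H E) b).isAlgebraic.inv⟩
  have hE : Vd ℓ E (d - 1 + 1) := by rw [Nat.sub_add_cancel h1]; exact vd_of_isAlgebraic h
  have hH' := EtDvrCd.vd_residue_of_vd H E hℓ (by simpa using hℓS.map (algebraMap S H)) hE
  refine ⟨h1, ?_⟩
  let ε := (RingEquiv.ofBijective _ (S0508.result S H)).symm
  letI : Algebra (ResidueField H) (ResidueField S) := ε.toRingHom.toAlgebra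
  exact vd_of_ringEquiv ε hH'

/-- one dimensional local domains -/
theorem vd_step_dim_one (A K : Type u) [CommRing A] [IsDomain A] [IsNoetherianRing A] [IsLocalRing A] [Field K]
    [Algebra A K] [IsFractionRing A K] (hdim : ringKrullDim A = 1) {ℓ : ℕ} (hℓ : ℓ.Prime) (hℓA : IsUnit (ℓ : A))
    (hord : Hord ℓ A) {d : ℕ} (h : Vd ℓ K d) : 1 ≤ d ∧ Vd ℓ (ResidueField A) (d - 1) := by
  obtain ⟨S, _, _, _, _, _, _, _, _, hfin, -⟩ := exists_dvr A K hdim
  obtain ⟨h1, hS⟩ := vd_residue_dvr S K hℓ (by simpa using hℓA.map (algebraMap A S)) h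
  haveI : Module.Finite (ResidueField A) (ResidueField S) := Module.Finite.of_restrictScalars_finite A _ _
  exact ⟨h1, vd_of_finite hℓ (ResidueField A) (ResidueField S) (by simpa using (hℓA.map (residue A)).ne_zero)
    (hord.not_orderable (residue A)) hS⟩

/-- a height one prime of a local domain -/
theorem vd_step_height_one (A K : Type u) [CommRing A] [IsDomain A] [IsNoetherianRing A] [IsLocalRing A] [Field K]
    [Algebra A K] [IsFractionRing A K] (P : Ideal A) [P.IsPrime] (hP : P.height = 1) {ℓ : ℕ} (hℓ : ℓ.Prime)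
    (hℓA : IsUnit (ℓ : A)) (hord : Hord ℓ A) {d : ℕ} (h : Vd ℓ K d) :
    1 ≤ d ∧ Vd ℓ (FractionRing (A ⧸ P)) (d - 1) := by
  let B := Localization.AtPrime P
  have hdim : ringKrullDim B = 1 := by rw [IsLocalization.AtPrime.ringKrullDim_eq_height P B, hP]; rfl
  haveI : IsNoetherianRing B := IsLocalization.isNoetherianRing P.primeCompl B inferInstance
  have hunit : ∀ y : P.primeCompl, IsUnit (algebraMap A K y) := fun y =>
    IsUnit.mk0 _ fun h0 => y.2 (by
      rw [show (y : A) = 0 from IsFractionRing.injective A K (h0.trans (map_zero _).symm)]; exact P.zero_mem)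
  letI : Algebra B K := (IsLocalization.lift (S := B) hunit).toAlgebra
  haveI : IsScalarTower A B K := .of_algebraMap_eq fun x => (IsLocalization.lift_eq hunit x).symm
  haveI : IsFractionRing B K := IsFractionRing.isFractionRing_of_isDomain_of_isLocalization P.primeCompl B K
  obtain ⟨h1, hB⟩ := vd_step_dim_one B K hdim hℓ (by simpa using hℓA.map (algebraMap A B))
    (hord.comp (algebraMap A B)) h
  refine ⟨h1, ?_⟩
  let ε : P.ResidueField ≃+* FractionRing (A ⧸ P) := (FractionRing.algEquiv (A ⧸ P) P.ResidueField).symm.toRingEquiv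
  letI : Algebra P.ResidueField (FractionRing (A ⧸ P)) := ε.toRingHom.toAlgebra
  exact vd_of_ringEquiv ε hB

/-- the residue field of a local domain of dimension `n` -/
theorem vd_dim : ∀ (n : ℕ) (A K : Type u) [CommRing A] [IsDomain A] [IsNoetherianRing A] [IsLocalRing A] [Field K]
    [Algebra A K] [IsFractionRing A K] (ℓ : ℕ), ℓ.Prime → IsUnit (ℓ : A) → Hord ℓ A → ringKrullDim A = n →
    ∀ d : ℕ, Vd ℓ K d → n ≤ d ∧ Vd ℓ (ResidueField A) (d - n) := by
  intro n
  induction n using Nat.strong_induction_on with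
  | _ n ih =>
    intro A K _ _ _ _ _ _ _ ℓ hℓ hℓA hord hdim d h
    rcases Nat.eq_zero_or_pos n with rfl | hn
    · have hfield : IsField A := by
        haveI : Ring.KrullDimLE 0 A := (Ring.krullDimLE_iff (R := A) (n := 0)).2 hdim.le
        exact Ring.KrullDimLE.isField_of_isDomain
      refine ⟨Nat.zero_le _, ?_⟩
      let ε : K ≃+* ResidueField A :=
        (RingEquiv.ofBijective (algebraMap A K) ⟨IsFractionRing.injective _ _, fun z => by
          obtain ⟨a, b, hb, rfl⟩ := IsFractionRing.div_surjective A z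
          obtain ⟨c, hc⟩ := hfield.mul_inv_cancel (nonZeroDivisors.ne_zero hb)
          refine ⟨a * c, eq_div_of_mul_eq ?_ ?_⟩
          · exact IsFractionRing.to_map_ne_zero_of_mem_nonZeroDivisors hb
          · rw [← map_mul, mul_assoc, mul_comm c b, hc, mul_one]⟩).symm.trans
        (RingEquiv.ofBijective (residue A) ⟨(RingHom.injective_iff_ker_eq_bot _).2
          ((IsLocalRing.ker_residue (R := A)).trans (IsLocalRing.isField_iff_maximalIdeal_eq.1 hfield)),
          residue_surjective⟩)
      letI : Algebra K (ResidueField A) := ε.toRingHom.toAlgebra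
      exact vd_of_ringEquiv ε h
    obtain ⟨s, hs⟩ := Order.le_krullDim_iff.1 (show (n : WithBot ℕ∞) ≤ Order.krullDim (PrimeSpectrum A) from hdim.ge)
    let i1 : Fin (s.length + 1) := ⟨1, by omega⟩
    have hne : (s i1).asIdeal ≠ ⊥ := fun h0 => by
      have hlt := s.strictMono (show (⟨0, by omega⟩ : Fin (s.length + 1)) < i1 from Fin.mk_lt_mk.2 Nat.one_pos)
      exact not_lt_bot (h0 ▸ (PrimeSpectrum.asIdeal_lt_asIdeal _ _).2 hlt)
    obtain ⟨a, ha, ha0⟩ := Submodule.exists_mem_ne_zero_of_ne_bot hne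
    obtain ⟨P, hP, hPle⟩ := Ideal.exists_minimalPrimes_le (I := Ideal.span {a}) (J := (s i1).asIdeal)
      ((Ideal.span_singleton_le_iff_mem _).2 ha)
    haveI := hP.1.1
    have haP : a ∈ P := hP.1.2 (Ideal.mem_span_singleton_self a)
    have hh : P.height = 1 := le_antisymm (Ideal.height_le_one_of_isPrincipal_of_mem_minimalPrimes _ _ hP)
      (Order.one_le_iff_ne_zero.2 fun h0 => ha0 (by
        have hbot := Ideal.height_eq_zero_iff.1 h0
        rw [IsDomain.minimalPrimes_eq_singleton_bot, Set.mem_singleton_iff] at hbot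
        exact (Submodule.mem_bot A).1 (hbot ▸ haP)))
    obtain ⟨h1, h2⟩ := vd_step_height_one A K P hh hℓ hℓA hord h
    haveI : IsLocalRing (A ⧸ P) := .of_surjective' (Ideal.Quotient.mk P) Ideal.Quotient.mk_surjective
    have hle : ∀ i : Fin (n - 1 + 1), P ≤ (s ⟨i + 1, by omega⟩).asIdeal := fun i =>
      hPle.trans (s.monotone (show i1 ≤ ⟨i + 1, by omega⟩ from Fin.mk_le_mk.2 (by omega)))
    let t : LTSeries (PrimeSpectrum (A ⧸ P)) := LTSeries.mk (n - 1)
      (fun i => ⟨(s ⟨i + 1, by omega⟩).asIdeal.map (Ideal.Quotient.mk P),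
        Ideal.map_isPrime_of_surjective Ideal.Quotient.mk_surjective (by rw [Ideal.mk_ker]; exact hle i)⟩)
      (fun i j hij => by
        have hlt := (PrimeSpectrum.asIdeal_lt_asIdeal _ _).2 (s.strictMono
          (show (⟨(i : ℕ) + 1, by omega⟩ : Fin (s.length + 1)) < ⟨(j : ℕ) + 1, by omega⟩ from
            Fin.mk_lt_mk.2 (by simpa using hij)))
        refine lt_of_le_of_ne (Ideal.map_mono hlt.le) fun he => hlt.ne ?_
        have he' := congrArg (Ideal.comap (Ideal.Quotient.mk P)) (congrArg PrimeSpectrum.asIdeal he)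
        simpa [Ideal.comap_map_of_surjective _ Ideal.Quotient.mk_surjective, ← RingHom.ker_eq_comap_bot,
          Ideal.mk_ker, sup_eq_left.2 (hle i), sup_eq_left.2 (hle j)] using he')
    have hge : ((n - 1 : ℕ) : WithBot ℕ∞) ≤ ringKrullDim (A ⧸ P) := Order.LTSeries.length_le_krullDim t
    have hlt : ringKrullDim (A ⧸ P) + 1 ≤ n :=
      hdim ▸ le_trans (by gcongr; exact ringKrullDim_le_of_surjective (Ideal.Quotient.factor
        ((Ideal.span_singleton_le_iff_mem P).2 haP)) (Ideal.Quotient.factor_surjective _))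
        (ringKrullDim_quotient_succ_le_of_nonZeroDivisor (mem_nonZeroDivisors_of_ne_zero ha0))
    obtain ⟨M, hM⟩ : ∃ M : ℕ, ringKrullDim (A ⧸ P) = M := by
      obtain ⟨v, hv⟩ := WithBot.ne_bot_iff_exists.1 (ringKrullDim_ne_bot (R := A ⧸ P))
      have : v ≠ ⊤ := fun ht => ringKrullDim_ne_top (R := A ⧸ P) (by rw [← hv, ht]; rfl)
      obtain ⟨M, rfl⟩ := ENat.ne_top_iff_exists.1 this
      exact ⟨M, hv.symm⟩
    rw [hM] at hge hlt
    have hM1 : M + 1 ≤ n := by exact_mod_cast hlt
    have hM2 : n - 1 ≤ M := by exact_mod_cast hge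
    obtain ⟨h3, h4⟩ := ih M (by omega) (A ⧸ P) (FractionRing (A ⧸ P)) ℓ hℓ
      (by simpa using hℓA.map (Ideal.Quotient.mk P)) (hord.comp (Ideal.Quotient.mk P)) hM (d - 1) h2
    refine ⟨by omega, ?_⟩
    haveI : IsLocalHom (Ideal.Quotient.mk P) := IsLocalHom.of_surjective _ Ideal.Quotient.mk_surjective
    let ε : ResidueField (A ⧸ P) ≃+* ResidueField A :=
      (RingEquiv.ofBijective (ResidueField.map (Ideal.Quotient.mk P)) ⟨RingHom.injective _, fun z => by
        obtain ⟨a, rfl⟩ := residue_surjective z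
        obtain ⟨b, rfl⟩ := Ideal.Quotient.mk_surjective a
        exact ⟨residue A b, ResidueField.map_residue _ b⟩⟩).symm
    letI : Algebra (ResidueField (A ⧸ P)) (ResidueField A) := ε.toRingHom.toAlgebra
    rw [show d - n = d - 1 - M by omega]
    exact vd_of_ringEquiv ε h4

end Groth.Agent.SerreCd
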