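import Groth.Agent.SerreCd.Dim
import Groth.Agent.EtDvrCd.Upper
import Groth.Agent.S0537
import Groth.Agent.FieldCd.Trdeg

/-!
# Strictly henselian domains dominating a local ring of dimension at most one
-/

set_option autoImplicit false
set_option linter.style.haveILetI false
set_option linter.unusedSectionVars false
set_option backward.isDefEq.respectTransparency false
set_option backward.isDefEq.respectTransparency.types false

universe u

open IsLocalRing AlgebraicGeometry Cardinal

noncomputable section

namespace Groth.Agent.SerreCd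

open FieldCd EtDvrCd

/-- fraction fields of strictly henselian domains of dimension zero -/
theorem vd_frac_zero (R : Type u) [CommRing R] [HenselianLocalRing R] [IsSepClosed (ResidueField R)]
    (P : Ideal R) [P.IsPrime] (hdim : ringKrullDim R ≤ 0) (ℓ : ℕ) : Vd ℓ (FractionRing (R ⧸ P)) 0 := by
  haveI : Ring.KrullDimLE 0 R := (Ring.krullDimLE_iff (R := R) (n := 0)).2 hdim
  have hP : P = maximalIdeal R := IsLocalRing.eq_maximalIdeal (P.isMaximal_of_isPrime)
  subst hP
  let K := FractionRing (R ⧸ maximalIdeal R)
  let e : ResidueField R ≃+* K := RingEquiv.ofBijective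
    (show ResidueField R →+* K from algebraMap (R ⧸ maximalIdeal R) K)
    ⟨RingHom.injective _, fun z => by
      obtain ⟨a, b, hb, rfl⟩ := IsFractionRing.div_surjective (A := R ⧸ maximalIdeal R) z
      let a' : ResidueField R := a
      let b' : ResidueField R := b
      exact ⟨a' / b', map_div₀ _ _ _⟩⟩
  haveI : IsSepClosed K := EtCdFun.isSepClosed_of_equiv e
  haveI : IsSepClosed (ResidueField K) := EtCdFun.isSepClosed_of_equiv
    (RingEquiv.ofBijective (residue K) ⟨RingHom.injective _, IsLocalRing.residue_surjective⟩)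
  exact fun F a _ q hq => S0073.result K F q (by omega)

theorem vd_frac_dominating (T W : Type u) [CommRing T] [IsDomain T] [HenselianLocalRing T]
    [IsSepClosed (ResidueField T)] [CommRing W] [IsDomain W] [IsLocalRing W] [IsNoetherianRing W]
    (φ : W →+* T) (hφ : Function.Injective φ) [IsLocalHom φ] (K F : Type u) [Field K] [Field F] [Algebra W K]
    [IsFractionRing W K] [Algebra T F] [IsFractionRing T F] [Algebra K F]
    (hcompat : ∀ w, algebraMap K F (algebraMap W K w) = algebraMap T F (φ w))
    {ℓ : ℕ} (hℓ : ℓ.Prime) (hℓW : IsUnit (ℓ : W)) {e c : ℕ} (hdim : ringKrullDim W ≤ e) (he : e ≤ 1)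
    (htr : Algebra.trdeg K F ≤ c) : Vd ℓ F (e + c) := by
  obtain ⟨S, _, _, _, _, hS⟩ := Groth.Agent.S0537.result W
  haveI := hS
  haveI : HenselianLocalRing S := _root_.Hensel.IsStrictHenselization.henselian (R := W)
  haveI hsc : IsSepClosure (ResidueField W) (ResidueField S) := _root_.Hensel.IsStrictHenselization.isSepClosure
  haveI : IsSepClosed (ResidueField S) := hsc.sep_closed
  haveI : Algebra.IsSeparable (ResidueField W) (ResidueField S) := hsc.separable
  letI : Algebra (ResidueField W) (ResidueField T) := (ResidueField.map φ).toAlgebra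
  let τ : ResidueField S →ₐ[ResidueField W] ResidueField T := IsSepClosed.lift
  obtain ⟨g, ⟨hg, -⟩, -⟩ := _root_.Hensel.IsStrictHenselization.universal (R := W) (S := S) T φ τ.toRingHom (by
    refine RingHom.ext fun z => ?_
    exact τ.commutes z)
  let P := RingHom.ker g
  haveI : P.IsPrime := RingHom.ker_isPrime g
  let F0 := FractionRing (S ⧸ P)
  have hinj : Function.Injective ((algebraMap T F).comp (RingHom.kerLift g)) :=
    (IsFractionRing.injective T F).comp (RingHom.kerLift_injective g)
  letI : Algebra F0 F := (IsFractionRing.lift (K := F0) hinj).toAlgebra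
  have hgW : ∀ w, g (algebraMap W S w) = φ w := fun w => RingHom.congr_fun hg w
  have hinjW : Function.Injective (algebraMap W F0) := by
    refine (RingHom.injective_iff_ker_eq_bot _).2 (eq_bot_iff.2 fun w hw => ?_)
    have h1 : Ideal.Quotient.mk P (algebraMap W S w) = 0 :=
      IsFractionRing.to_map_eq_zero_iff.1 (hw : algebraMap W F0 w = 0)
    exact hφ ((hgW w).symm.trans ((RingHom.mem_ker.1 (Ideal.Quotient.eq_zero_iff_mem.1 h1)).trans (map_zero φ).symm))
  letI : Algebra K F0 := (IsFractionRing.lift (K := K) hinjW).toAlgebra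
  haveI : IsScalarTower K F0 F := .of_algebraMap_eq' (IsLocalization.ringHom_ext (nonZeroDivisors W)
    (RingHom.ext fun w => by
      show algebraMap K F (algebraMap W K w) =
        IsFractionRing.lift (K := F0) hinj (IsFractionRing.lift (K := K) hinjW (algebraMap W K w))
      rw [IsFractionRing.lift_algebraMap, hcompat, IsScalarTower.algebraMap_apply W (S ⧸ P) F0,
        IsFractionRing.lift_algebraMap]
      exact congrArg (algebraMap T F) (hgW w).symm))
  haveI : IsNoetherianRing S := (Groth.Agent.S0540.result W S).1 inferInstance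
  have hdS : ringKrullDim S ≤ e := (Groth.Agent.S0541.result W S).trans_le hdim
  have hℓS : IsUnit (ℓ : S) := by simpa using hℓW.map (algebraMap W S)
  have h0 : Vd ℓ F0 e := by
    rcases Nat.le_one_iff_eq_zero_or_eq_one.1 he with rfl | rfl
    · exact vd_frac_zero S P hdS ℓ
    · exact vd_frac_sh S hdS P hℓ hℓS
  have htr' : Algebra.trdeg F0 F ≤ c := by
    refine le_trans ?_ htr
    rw [← trdeg_add_eq (R := K) (S := F0) (A := F)]
    exact self_le_add_left _ _
  exact vd_of_trdeg hℓ c F0 F e htr' h0

/-- localising a polynomial ring inside a strictly henselian domain -/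
theorem vd_frac_of_mvPolynomial (A T W K : Type u) [CommRing A] [IsDomain A] [CommRing T] [IsDomain T]
    [IsNoetherianRing A] [HenselianLocalRing T] [IsSepClosed (ResidueField T)] [Algebra A T] (F : Type u) [Field F]
    [Algebra T F] [IsFractionRing T F]
    [Algebra A F] (hcompat : ∀ a, algebraMap A F a = algebraMap T F (algebraMap A T a))
    {ℓ : ℕ} (hℓ : ℓ.Prime) (hℓA : IsUnit (ℓ : A)) {e : ℕ} (he : e ≤ 1) {n : ℕ} (t : Fin n → T)
    (q : Ideal (MvPolynomial (Fin n) A)) [q.IsPrime] (hq : q = (maximalIdeal T).comap (MvPolynomial.aeval t).toRingHom)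
    (hq1 : q.height ≤ e) (hev : Function.Injective (MvPolynomial.aeval (R := A) t))
    [CommRing W] [IsLocalRing W] [Algebra (MvPolynomial (Fin n) A) W] [IsLocalization.AtPrime W q]
    [Algebra A W] [IsScalarTower A (MvPolynomial (Fin n) A) W]
    [Field K] [Algebra (MvPolynomial (Fin n) A) K] [IsFractionRing (MvPolynomial (Fin n) A) K]
    [Algebra A K] [IsScalarTower A (MvPolynomial (Fin n) A) K]
    {N : ℕ} (htr : Algebra.trdeg A F ≤ (N : Cardinal.{u})) : ∃ b, n + b ≤ N ∧ Vd ℓ F (e + b) := by
  subst hq
  let B := MvPolynomial (Fin n) A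
  let ev : B →ₐ[A] T := MvPolynomial.aeval t
  let q : Ideal B := (maximalIdeal T).comap ev.toRingHom
  have hu : ∀ y : q.primeCompl, IsUnit (ev.toRingHom y) := fun y => notMem_maximalIdeal.1 y.2
  let φ : W →+* T := IsLocalization.lift hu
  have hφ : Function.Injective φ := (IsLocalization.lift_injective_iff hu).2 fun x y => by
    constructor
    · intro h
      exact congrArg ev (IsLocalization.injective W q.primeCompl_le_nonZeroDivisors h)
    · intro h
      rw [hev h]
  haveI : IsLocalHom φ := ⟨fun w hw => by
    obtain ⟨p, s, rfl⟩ := IsLocalization.exists_mk'_eq q.primeCompl w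
    refine (IsLocalization.AtPrime.isUnit_mk'_iff W q p s).2 fun hp => ?_
    have h1 : φ (algebraMap B W p) = φ (IsLocalization.mk' W p s) * φ (algebraMap B W s) := by
      rw [← map_mul, IsLocalization.mk'_spec]
    rw [IsLocalization.lift_eq, IsLocalization.lift_eq] at h1
    have h2 : IsUnit (ev.toRingHom p) := by
      rw [h1]
      exact hw.mul (hu s)
    exact (mem_maximalIdeal _).1 hp h2⟩
  haveI : IsDomain W := hφ.isDomain φ
  have hunit : ∀ y : q.primeCompl, IsUnit (algebraMap B K y) := fun y =>
    IsUnit.mk0 _ fun h0 => y.2 (by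
      rw [show (y : B) = 0 from IsFractionRing.injective B K (h0.trans (map_zero _).symm)]; exact q.zero_mem)
  letI : Algebra W K := (IsLocalization.lift (S := W) hunit).toAlgebra
  haveI : IsScalarTower B W K := .of_algebraMap_eq fun x => (IsLocalization.lift_eq hunit x).symm
  haveI : IsFractionRing W K := IsFractionRing.isFractionRing_of_isDomain_of_isLocalization q.primeCompl W K
  haveI : IsScalarTower A W K := .of_algebraMap_eq fun a => by
    rw [IsScalarTower.algebraMap_apply A B W, ← IsScalarTower.algebraMap_apply B W K,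
      ← IsScalarTower.algebraMap_apply A B K]
  have hinjF : Function.Injective ((algebraMap T F).comp φ) := (IsFractionRing.injective T F).comp hφ
  letI : Algebra K F := (IsFractionRing.lift (K := K) hinjF).toAlgebra
  have hKF : ∀ w, algebraMap K F (algebraMap W K w) = algebraMap T F (φ w) := fun w =>
    IsFractionRing.lift_algebraMap hinjF w
  haveI : IsScalarTower A K F := .of_algebraMap_eq fun a => by
    rw [IsScalarTower.algebraMap_apply A W K, hKF, hcompat, IsScalarTower.algebraMap_apply A B W,
      IsLocalization.lift_eq]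
    exact congrArg (algebraMap T F) (MvPolynomial.aeval_C t a).symm
  have hinjBK : Function.Injective (algebraMap B K) := by
    rw [IsScalarTower.algebraMap_eq B W K]
    exact (IsFractionRing.injective W K).comp (IsLocalization.injective W q.primeCompl_le_nonZeroDivisors)
  haveI : FaithfulSMul A K := (faithfulSMul_iff_algebraMap_injective A K).2 (by
    rw [IsScalarTower.algebraMap_eq A B K]
    exact hinjBK.comp (MvPolynomial.C_injective (Fin n) A))
  have hX : AlgebraicIndependent A (fun i : Fin n => algebraMap B K (MvPolynomial.X i)) := by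
    refine algebraicIndependent_iff_injective_aeval.2 ?_
    have he : (MvPolynomial.aeval fun i : Fin n => algebraMap B K (MvPolynomial.X i)) =
        IsScalarTower.toAlgHom A B K := MvPolynomial.algHom_ext fun i => by
      rw [MvPolynomial.aeval_X]
      rfl
    rw [he]
    exact hinjBK
  have h1 : (n : Cardinal.{u}) ≤ Algebra.trdeg A K := by
    have := hX.lift_cardinalMk_le_trdeg
    simpa using this
  have h2 : Algebra.trdeg A K + Algebra.trdeg K F = Algebra.trdeg A F := trdeg_add_eq A K
  have hfin : Algebra.trdeg K F < ℵ₀ :=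
    lt_of_le_of_lt ((self_le_add_left _ _).trans (h2.le.trans htr)) natCast_lt_aleph0
  obtain ⟨b, hb⟩ := Cardinal.lt_aleph0.1 hfin
  refine ⟨b, ?_, ?_⟩
  · have h4 : ((n + b : ℕ) : Cardinal.{u}) ≤ (N : Cardinal.{u}) := by
      rw [Nat.cast_add, ← hb]
      exact (add_le_add h1 le_rfl).trans (h2.le.trans htr)
    exact Nat.cast_le.1 h4
  haveI : IsNoetherianRing W := IsLocalization.isNoetherianRing q.primeCompl W inferInstance
  refine vd_frac_dominating T W φ hφ K F hKF hℓ ?_ ?_ he hb.le
  · simpa using hℓA.map (algebraMap A W)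
  · rw [IsLocalization.AtPrime.ringKrullDim_eq_height q W]
    exact WithBot.coe_le_coe.2 hq1


/-- domination of a polynomial ring over a local principal ideal domain of dimension at most one -/
theorem vd_frac_of_residue_indep (A T : Type u) [CommRing A] [IsDomain A] [IsLocalRing A] [IsPrincipalIdealRing A]
    [CommRing T] [IsDomain T] [HenselianLocalRing T] [IsSepClosed (ResidueField T)]
    (ι : A →+* T) (hι : Function.Injective ι) [IsLocalHom ι] (F : Type u) [Field F] [Algebra T F] [IsFractionRing T F]
    [Algebra A F] (hcompat : ∀ a, algebraMap A F a = algebraMap T F (ι a))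
    {ℓ : ℕ} (hℓ : ℓ.Prime) (hℓA : IsUnit (ℓ : A)) {e : ℕ} (hdim : ringKrullDim A ≤ e) (he : e ≤ 1)
    {n : ℕ} (t : Fin n → T)
    (hindep : ∀ g : MvPolynomial (Fin n) (ResidueField A),
      MvPolynomial.eval₂ (ResidueField.map ι) (fun i => residue T (t i)) g = 0 → g = 0)
    {N : ℕ} (htr : Algebra.trdeg A F ≤ (N : Cardinal.{u})) : ∃ b, n + b ≤ N ∧ Vd ℓ F (e + b) := by
  letI : Algebra A T := ι.toAlgebra
  let B := MvPolynomial (Fin n) A
  let ev : B →ₐ[A] T := MvPolynomial.aeval t
  let q : Ideal B := (maximalIdeal T).comap ev.toRingHom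
  have hq : q = (maximalIdeal A).map MvPolynomial.C := by
    refine le_antisymm (fun p hp => ?_) (Ideal.map_le_iff_le_comap.2 fun a ha => ?_)
    · rw [MvPolynomial.mem_map_C_iff]
      intro d
      have h2 : MvPolynomial.map (residue A) p = 0 := by
        refine hindep _ ?_
        rw [MvPolynomial.eval₂_map]
        have h3 : residue T (ev p) = 0 := (residue_eq_zero_iff _).2 hp
        rw [← h3]
        show _ = residue T (MvPolynomial.eval₂ ι t p)
        rw [MvPolynomial.eval₂_comp_left]
        rfl
      have h4 := congrArg (MvPolynomial.coeff d) h2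
      rw [MvPolynomial.coeff_map, MvPolynomial.coeff_zero, residue_eq_zero_iff] at h4
      exact h4
    · show ev (MvPolynomial.C a) ∈ maximalIdeal T
      rw [show ev (MvPolynomial.C a) = ι a from MvPolynomial.aeval_C t a]
      exact map_nonunit ι a ha
  have hq1 : q.height ≤ e := by
    rcases Nat.le_one_iff_eq_zero_or_eq_one.1 he with rfl | rfl
    · haveI : Ring.KrullDimLE 0 A := (Ring.krullDimLE_iff (R := A) (n := 0)).2 hdim
      have hm : maximalIdeal A = ⊥ := (IsLocalRing.eq_maximalIdeal (Ideal.isMaximal_of_isPrime (⊥ : Ideal A))).symm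
      have : q = ⊥ := by rw [hq, hm, Ideal.map_bot]
      rw [this, Ideal.height_bot]
      exact bot_le
    · haveI : (maximalIdeal A).IsPrincipal := IsPrincipalIdealRing.principal _
      obtain ⟨π, hπ⟩ := Submodule.IsPrincipal.principal (S := maximalIdeal A)
      have : q = Ideal.span {MvPolynomial.C π} := by
        rw [hq, hπ, Ideal.submodule_span_eq, Ideal.map_span, Set.image_singleton]
      haveI : q.IsPrincipal := ⟨⟨_, this⟩⟩
      rw [Nat.cast_one]
      exact Ideal.height_le_one_of_isPrincipal_of_mem_minimalPrimes q q (by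
        rw [Ideal.minimalPrimes_eq_subsingleton_self]
        rfl)
  let K0 := RingHom.ker ev.toRingHom
  haveI : K0.IsPrime := RingHom.ker_isPrime _
  have hK0q : K0 ≤ q := fun p hp => by
    show ev p ∈ maximalIdeal T
    rw [show ev p = 0 from hp]
    exact zero_mem _
  have hK0 : K0 = ⊥ := by
    by_contra hne
    have hlt : K0 < q := by
      refine lt_of_le_of_ne hK0q fun h => ?_
      -- both contract to different ideals of `A`
      have h1 : ∀ a ∈ maximalIdeal A, a = 0 := fun a ha => by
        have h2 : MvPolynomial.C a ∈ K0 := by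
          rw [h, hq]
          exact Ideal.mem_map_of_mem _ ha
        exact hι (((MvPolynomial.aeval_C t a).symm.trans h2).trans (map_zero ι).symm)
      refine hne ?_
      rw [h, hq, show maximalIdeal A = ⊥ from eq_bot_iff.2 fun a ha => Ideal.mem_bot.2 (h1 a ha), Ideal.map_bot]
    have h2 : (2 : ℕ∞) ≤ q.height := by
      have hq' : (Ideal.height K0) + 1 ≤ q.height := Ideal.height_add_one_le_of_lt_of_isPrime hlt
      have hK : (Ideal.height (⊥ : Ideal B)) + 1 ≤ K0.height :=
        Ideal.height_add_one_le_of_lt_of_isPrime (bot_lt_iff_ne_bot.2 hne)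
      rw [Ideal.height_bot, zero_add] at hK
      exact le_trans (by rw [← one_add_one_eq_two]; gcongr) hq'
    exact absurd (Nat.cast_le.1 (h2.trans hq1) : 2 ≤ e) (by omega)
  have hev : Function.Injective ev := (RingHom.injective_iff_ker_eq_bot ev.toRingHom).2 hK0
  exact vd_frac_of_mvPolynomial A T (Localization.AtPrime q) (FractionRing B) F hcompat hℓ hℓA he t q rfl hq1 hev htr

end Groth.Agent.SerreCd
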