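import Groth.Agent.SerreCd.Periodicity
import Groth.Agent.CurveCd.FieldPts
import Groth.Agent.CurveCd.FieldGm
import Groth.Agent.FieldCd.Algebraic

/-!
# Extensions out of the free sheaf of an étale object
-/

set_option autoImplicit false
set_option linter.style.haveILetI false
set_option linter.unusedSectionVars false
set_option backward.isDefEq.respectTransparency false
set_option backward.isDefEq.respectTransparency.types false

universe u

open CategoryTheory CategoryTheory.Limits AlgebraicGeometry Opposite Abelian

noncomputable section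

namespace Groth.Agent.SerreCd

open CurveCd

variable {U X : Scheme.{u}} (j : U ⟶ X) [AlgebraicGeometry.Etale j]

/-- classes on an étale object vanish when the cohomology of the restriction does -/
theorem subsingleton_ext_free_Lo [EtShriek.JCont j] [PreservesFiniteLimits (EtCoh.pull j)]
    (F : EtCoh.Ab X) (n : ℕ) (h : Subsingleton (EtCoh.H U ((EtCoh.pull j).obj F) n)) :
    Subsingleton (Ext (free (H9Transfer.Lo j)) F n) := by
  let R := EtShriek.restrAlong j
  let L := EtShriek.extZero j
  let φ : EtCoh.pull j ≅ R := (EtLC12.AffineLocalAcyclic.restrIsoPull j).symm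
  haveI : PreservesFiniteColimits (EtCoh.pull j) :=
    haveI : (EtCoh.pull j).IsLeftAdjoint := (EtCoh.pullPushAdj j).isLeftAdjoint
    inferInstance
  haveI : PreservesFiniteLimits R := preservesFiniteLimits_of_natIso φ
  haveI : PreservesFiniteColimits R := preservesFiniteColimits_of_natIso φ
  haveI : PreservesFiniteLimits L := EtFound.extZero_preservesFiniteLimits j
  haveI : PreservesFiniteColimits L :=
    haveI : L.IsLeftAdjoint := (EtShriek.extZeroAdj j).isLeftAdjoint
    inferInstance
  haveI : R.Additive := Functor.additive_of_preserves_binary_products _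
  haveI : L.Additive := Functor.additive_of_preserves_binary_products _
  let adj := EtShriek.extZeroAdj j
  have hR : Subsingleton (Ext (free (EtCoh.top U)) (R.obj F) n) :=
    (subsingleton_H_iff (R.obj F) n).1 (GalCd5.subsingleton_H_of_iso (φ.app F) n h)
  let u₀ : (R.obj (L.obj (free (EtCoh.top U)))).obj.obj (op (EtCoh.top U)) :=
    sec (adj.unit.app (free (EtCoh.top U)))
  let a : free (H9Transfer.Lo j) ⟶ L.obj (free (EtCoh.top U)) :=
    lift (F := L.obj (free (EtCoh.top U))) (W := H9Transfer.Lo j) u₀
  let b : L.obj (free (EtCoh.top U)) ⟶ free (H9Transfer.Lo j) :=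
    (adj.homEquiv _ _).symm (lift (F := R.obj (free (H9Transfer.Lo j))) (W := EtCoh.top U) (univ (H9Transfer.Lo j)))
  have hab : a ≫ b = 𝟙 _ := by
    apply sec_injective
    rw [sec_comp, sec_lift]
    have h1 := congrArg sec ((adj.homEquiv_unit _ _ b).symm.trans
      ((adj.homEquiv _ _).apply_symm_apply
        (lift (F := R.obj (free (H9Transfer.Lo j))) (W := EtCoh.top U) (univ (H9Transfer.Lo j)))))
    rw [sec_comp, sec_lift] at h1
    exact h1
  refine subsingleton_of_forall_eq 0 fun x => ?_
  have hy : (Ext.mk₀ b).comp x (zero_add n) = 0 := by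
    generalize (Ext.mk₀ b).comp x (zero_add n) = y
    have hz : (Ext.mk₀ (adj.unit.app (free (EtCoh.top U)))).comp (y.mapExactFunctor R) (zero_add n) = 0 :=
      hR.elim _ _
    have h2 := H9ExtNat.mapExt_mapExt_natural R L adj.counit y
    have h3 := congrArg (fun e => (Ext.mk₀ (L.map (adj.unit.app (free (EtCoh.top U))))).comp e (zero_add n)) h2
    have ht : L.map (adj.unit.app (free (EtCoh.top U))) ≫ adj.counit.app (L.obj (free (EtCoh.top U))) =
        𝟙 (L.obj (free (EtCoh.top U))) :=
      adj.left_triangle_components _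
    have hLz : (Ext.mk₀ (L.map (adj.unit.app (free (EtCoh.top U))))).comp
        ((y.mapExactFunctor R).mapExactFunctor L) (zero_add n) = 0 := by
      rw [← Ext.mapExactFunctor_mk₀, ← Ext.mapExactFunctor_comp, hz, Ext.mapExactFunctor_zero]
    refine ((Ext.mk₀_id_comp y).symm.trans ?_)
    rw [← ht]
    erw [← Ext.mk₀_comp_mk₀_assoc]
    refine h3.symm.trans ((Ext.comp_assoc_of_third_deg_zero _ _ _ _).symm.trans ?_)
    exact (congrArg (fun e => Ext.comp e (Ext.mk₀ (adj.counit.app F)) (add_zero n)) hLz).trans (Ext.zero_comp ..)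
  have h4 := congrArg (fun e => (Ext.mk₀ a).comp e (zero_add n)) hy
  simpa only [Ext.mk₀_comp_mk₀_assoc, hab, Ext.mk₀_id_comp, Ext.comp_zero] using h4

end Groth.Agent.SerreCd
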