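import Groth.Agent.SerreCd.Liftable
import Mathlib.FieldTheory.KummerExtension
import Mathlib.RingTheory.ZMod.UnitsCyclic
import Mathlib.RingTheory.RootsOfUnity.PrimitiveRoots

/-!
# Liftable Kummer extensions
-/

set_option autoImplicit false
set_option linter.style.haveILetI false
set_option linter.unusedSectionVars false
set_option backward.isDefEq.respectTransparency false
set_option backward.isDefEq.respectTransparency.types false

universe u

open Polynomial IntermediateField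

noncomputable section

namespace Groth.Agent.SerreCd

open FieldCd

variable {ℓ : ℕ} {E L : Type u} [Field E] [Field L] [Algebra E L] [FiniteDimensional E L] [IsGalois E L]

/-- descent along a Kummer extension whose generator has an `ℓ`-th root in a cyclic extension of degree `ℓ²` -/
theorem vd_of_kummer_lift (hℓ : ℓ.Prime) {ζ : E} (hζ : IsPrimitiveRoot ζ ℓ) (hL : Module.finrank E L = ℓ)
    {a : E} {α : L} (hα : α ^ ℓ = algebraMap E L a) (htop : E⟮α⟯ = ⊤)
    (M : Type u) [Field M] [Algebra E M] [FiniteDimensional E M] [IsGalois E M] [IsCyclic Gal(M/E)]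
    (hM : Module.finrank E M = ℓ * ℓ) {γ : M} (hγ : γ ^ (ℓ * ℓ) = algebraMap E M a)
    {d : ℕ} (h : Vd ℓ L d) : Vd ℓ E d := by
  have hK : (primitiveRoots (Module.finrank E L) E).Nonempty :=
    ⟨ζ, (mem_primitiveRoots Module.finrank_pos).2 (hL.symm ▸ hζ)⟩
  haveI hsf := isSplittingField_X_pow_sub_C_of_root_adjoin_eq_top hK (a := a) (α := α) (by rw [hL]; exact hα) htop
  have hsplit : (map (algebraMap E M) (X ^ Module.finrank E L - C a)).Splits := by
    rw [Polynomial.map_sub, Polynomial.map_pow, Polynomial.map_C, Polynomial.map_X, hL]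
    exact X_pow_sub_C_splits_of_isPrimitiveRoot (hζ.map_of_injective (algebraMap E M).injective)
      (show (γ ^ ℓ) ^ ℓ = _ by rw [← pow_mul, hγ])
  let f : L →ₐ[E] M := IsSplittingField.lift L _ hsplit
  letI : Algebra L M := f.toRingHom.toAlgebra
  haveI : IsScalarTower E L M := .of_algebraMap_eq fun x => (f.commutes x).symm
  exact vd_liftable hℓ M hL hM h

/-- descent along cyclic extensions of degree `ℓ` when the base has the roots of unity of order `ℓ²` -/
theorem vd_step_root (hℓ : ℓ.Prime) (hℓE : (ℓ : E) ≠ 0) {μ : E} (hμ : IsPrimitiveRoot μ (ℓ * ℓ))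
    (hL : Module.finrank E L = ℓ) {d : ℕ} (h : Vd ℓ L d) : Vd ℓ E d := by
  haveI := Fact.mk hℓ
  have hζ : IsPrimitiveRoot (μ ^ ℓ) ℓ := hμ.pow (Nat.mul_pos hℓ.pos hℓ.pos) rfl
  haveI : IsCyclic Gal(L/E) := isCyclic_of_prime_card (p := ℓ) (by rw [IsGalois.card_aut_eq_finrank, hL])
  have hK : (primitiveRoots (Module.finrank E L) E).Nonempty :=
    ⟨μ ^ ℓ, (mem_primitiveRoots Module.finrank_pos).2 (hL.symm ▸ hζ)⟩
  obtain ⟨α, ⟨a, ha⟩, htop⟩ := exists_root_adjoin_eq_top_of_isCyclic E L hK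
  have hirr := irreducible_X_pow_sub_C_of_root_adjoin_eq_top (K := E) (L := L) (a := a) (α := α) ha.symm htop
  rw [hL] at hirr ha
  have hne : ∀ b : E, b ^ ℓ ≠ a := pow_ne_of_irreducible_X_pow_sub_C hirr dvd_rfl hℓ.ne_one
  have ha0 : a ≠ 0 := fun h0 => hne 0 (by rw [h0, zero_pow hℓ.ne_zero])
  have hneg : ∃ c : E, c ^ ℓ = -1 := by
    rcases hℓ.eq_two_or_odd' with rfl | hodd
    · exact ⟨μ, by rw [(hμ.pow (by norm_num) (show 2 * 2 = 2 * 2 from rfl)).eq_neg_one_of_two_right]⟩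
    · exact ⟨-1, hodd.neg_one_pow⟩
  obtain ⟨c, hc⟩ := hneg
  have hirr2 : Irreducible (X ^ (ℓ * ℓ) - C a) := by
    refine X_pow_mul_sub_C_irreducible hirr fun F _ _ x hx => ?_
    have hint : IsIntegral E x := not_not.mp fun h ↦ by
      simpa only [degree_zero, degree_X_pow_sub_C hℓ.pos, WithBot.natCast_ne_bot] using
        congr_arg degree (hx.symm.trans (dif_neg h))
    refine X_pow_sub_C_irreducible_of_prime hℓ fun b hb => ?_
    have hN : (Algebra.norm E b) ^ ℓ = (-1) ^ ℓ * (-a) := by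
      rw [← map_pow, hb, ← adjoin.powerBasis_gen hint, Algebra.PowerBasis.norm_gen_eq_coeff_zero_minpoly]
      simp [minpoly_gen, hx, hℓ.ne_zero.symm]
    refine hne (c * (Algebra.norm E b * (-1))) ?_
    rw [mul_pow, hc, mul_pow, hN]
    have h2 : ((-1 : E) ^ ℓ) * (-1) ^ ℓ = 1 := by rw [← mul_pow, neg_one_mul, neg_neg, one_pow]
    linear_combination a * h2
  have hKM : (primitiveRoots (ℓ * ℓ) E).Nonempty := ⟨μ, (mem_primitiveRoots (Nat.mul_pos hℓ.pos hℓ.pos)).2 hμ⟩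
  haveI : NeZero (ℓ * ℓ) := ⟨mul_ne_zero hℓ.ne_zero hℓ.ne_zero⟩
  let M := (X ^ (ℓ * ℓ) - C a).SplittingField
  haveI : IsCyclic Gal(M/E) := isCyclic_of_isSplittingField_X_pow_sub_C hKM hirr2 M
  haveI : IsGalois E M := isGalois_of_isSplittingField_X_pow_sub_C hKM hirr2 M
  have hroot : ((X ^ (ℓ * ℓ) - C a).map (algebraMap E M)).degree ≠ 0 := by
    rw [Polynomial.map_sub, Polynomial.map_pow, Polynomial.map_C, Polynomial.map_X,
      degree_X_pow_sub_C (Nat.mul_pos hℓ.pos hℓ.pos)]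
    exact_mod_cast mul_ne_zero hℓ.ne_zero hℓ.ne_zero
  obtain ⟨γ, hγ⟩ := (Polynomial.SplittingField.splits (X ^ (ℓ * ℓ) - C a)).exists_eval_eq_zero hroot
  rw [Polynomial.map_sub, Polynomial.map_pow, Polynomial.map_C, Polynomial.map_X, eval_sub, eval_pow, eval_X,
    eval_C, sub_eq_zero] at hγ
  exact vd_of_kummer_lift hℓ hζ hL ha.symm htop M (finrank_of_isSplittingField_X_pow_sub_C hKM hirr2 M) hγ h

/-- descent along the extension by the roots of unity of order `ℓ²` for odd `ℓ` -/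
theorem vd_step_cyclotomic (hℓ : ℓ.Prime) (hodd : ℓ ≠ 2) (hℓE : (ℓ : E) ≠ 0) {ζ : E} (hζ : IsPrimitiveRoot ζ ℓ)
    (hno : ∀ b : E, b ^ ℓ ≠ ζ) {α : L} (hα : α ^ ℓ = algebraMap E L ζ) (hL : Module.finrank E L = ℓ)
    {d : ℕ} (h : Vd ℓ L d) : Vd ℓ E d := by
  haveI := Fact.mk hℓ
  have htop : E⟮α⟯ = ⊤ := by
    refine (IntermediateField.isSimpleOrder_of_finrank_prime E L (hL ▸ hℓ)).eq_bot_or_eq_top _ |>.resolve_left ?_
    intro hbot
    obtain ⟨b, hb⟩ := IntermediateField.mem_bot.1 (hbot ▸ IntermediateField.mem_adjoin_simple_self E α)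
    exact hno b ((algebraMap E L).injective (by rw [map_pow, hb, hα]))
  have hirr : Irreducible (X ^ (ℓ ^ 2) - C ζ) := X_pow_sub_C_irreducible_of_prime_pow hℓ hodd 2 hno
  haveI := Fact.mk hirr
  let M := AdjoinRoot (X ^ (ℓ ^ 2) - C ζ)
  let ν : M := AdjoinRoot.root _
  have hν : ν ^ (ℓ ^ 2) = algebraMap E M ζ := root_X_pow_sub_C_pow _ _
  have hν3 : IsPrimitiveRoot ν (ℓ ^ 3) := by
    have h1 : ν ^ (ℓ ^ 3) = 1 := by rw [pow_succ ℓ 2, pow_mul, hν, ← map_pow, hζ.pow_eq_one, map_one]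
    have h2 : ¬ ν ^ (ℓ ^ 2) = 1 := by
      rw [hν, ← map_one (algebraMap E M)]
      exact fun h => hζ.ne_one hℓ.one_lt ((algebraMap E M).injective h)
    rw [← orderOf_eq_prime_pow h2 h1]
    exact IsPrimitiveRoot.orderOf ν
  have hmon : (X ^ (ℓ ^ 2) - C ζ).Monic := monic_X_pow_sub_C ζ (pow_ne_zero 2 hℓ.ne_zero)
  haveI : FiniteDimensional E M := hmon.finite_adjoinRoot
  have hfin : Module.finrank E M = ℓ * ℓ := by
    rw [(AdjoinRoot.powerBasis hmon.ne_zero).finrank, AdjoinRoot.powerBasis_dim, natDegree_X_pow_sub_C, sq]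
  haveI : IsSplittingField E M (X ^ (ℓ ^ 2) - C ζ) := by
    refine ⟨?_, ?_⟩
    · rw [Polynomial.map_sub, Polynomial.map_pow, Polynomial.map_C, Polynomial.map_X]
      exact X_pow_sub_C_splits_of_isPrimitiveRoot (hν3.pow (pow_pos hℓ.pos 3) (show ℓ ^ 3 = ℓ * ℓ ^ 2 by ring)) hν
    · rw [eq_top_iff, ← AdjoinRoot.adjoinRoot_eq_top]
      refine Algebra.adjoin_mono (Set.singleton_subset_iff.2 ?_)
      rw [mem_rootSet_of_ne hmon.ne_zero]
      exact AdjoinRoot.aeval_eq _ |>.trans AdjoinRoot.mk_self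
  haveI : IsGalois E M := IsGalois.of_separable_splitting_field (p := X ^ (ℓ ^ 2) - C ζ)
    (separable_X_pow_sub_C ζ (by exact_mod_cast fun h0 : ((ℓ ^ 2 : ℕ) : E) = 0 => hℓE (pow_eq_zero_iff two_ne_zero |>.1 (by exact_mod_cast h0)))
      (hζ.ne_zero hℓ.ne_zero))
  haveI : NeZero (ℓ ^ 3) := ⟨pow_ne_zero 3 hℓ.ne_zero⟩
  haveI : IsCyclic Gal(M/E) := by
    haveI := ZMod.isCyclic_units_of_prime_pow ℓ hℓ hodd 3
    refine isCyclic_of_injective (hν3.autToPow E) fun f g hfg => ?_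
    refine AlgEquiv.coe_toAlgHom_injective (AdjoinRoot.algHom_ext ?_)
    show f ν = g ν
    rw [← hν3.autToPow_spec E f, ← hν3.autToPow_spec E g, hfg]
  exact vd_of_kummer_lift hℓ hζ hL hα htop M hfin (by rw [← sq]; exact hν) h

end Groth.Agent.SerreCd
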