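import Groth.Agent.SerreCd.FreeExt
import Groth.Agent.H9Transfer.Kill
import Groth.Agent.H9Transfer.Field

/-!
# Descent of the cohomological dimension along liftable cyclic extensions
-/

set_option autoImplicit false
set_option linter.style.haveILetI false
set_option linter.unusedSectionVars false
set_option backward.isDefEq.respectTransparency false
set_option backward.isDefEq.respectTransparency.types false

universe u

open CategoryTheory CategoryTheory.Limits AlgebraicGeometry Opposite Abelian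

noncomputable section

namespace Groth.Agent.SerreCd

open CurveCd GalCd5 FieldCd

attribute [local instance] EtFound.pull_preservesFiniteLimits

variable {ℓ : ℕ} {E L : Type u} [Field E] [Field L] [Algebra E L] [FiniteDimensional E L] [Algebra.IsSeparable E L]

/-- the base as a point of itself -/
abbrev base (E : Type u) [Field E] : Spec (CommRingCat.of E) ⟶ Spec (CommRingCat.of E) := 𝟙 _

theorem subsingleton_ext_pt [Etale (extHom (base E) L)] {d : ℕ} (h : Vd ℓ L d)
    (F : EtCoh.Ab (Spec (CommRingCat.of E))) {a : ℕ} (hF : (ℓ ^ a) • 𝟙 F = 0) {n : ℕ} (hn : d < n) :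
    Subsingleton (Ext (free (pt (extHom (base E) L))) F n) := by
  haveI := H9Transfer.etale_specMap E L
  haveI := EtFound.jCont (H9Transfer.specMap E L)
  haveI : (EtCoh.pull (H9Transfer.specMap E L)).Additive :=
    (EtCoh.pullPushAdj (H9Transfer.specMap E L)).left_adjoint_additive
  have h1 := subsingleton_ext_free_Lo (H9Transfer.specMap E L) F n (h _ a (killed_map _ F _ hF) n hn)
  let i : pt (extHom (base E) L) ⟶ H9Transfer.Lo (H9Transfer.specMap E L) :=
    MorphismProperty.Over.homMk (𝟙 _) (by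
      show 𝟙 _ ≫ 𝟙 _ ≫ H9Transfer.specMap E L = H9Transfer.specMap E L ≫ base E
      rw [Category.id_comp, Category.id_comp, Category.comp_id])
  let i' : H9Transfer.Lo (H9Transfer.specMap E L) ⟶ pt (extHom (base E) L) :=
    MorphismProperty.Over.homMk (𝟙 _) (by
      show 𝟙 _ ≫ H9Transfer.specMap E L ≫ base E = 𝟙 _ ≫ H9Transfer.specMap E L
      rw [Category.comp_id])
  refine subsingleton_of_forall_eq 0 fun x => ?_
  have hii : i ≫ i' = 𝟙 _ := MorphismProperty.Over.Hom.ext (Category.id_comp _)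
  have h2 : (Ext.mk₀ (fmap i')).comp x (zero_add n) = 0 := h1.elim _ _
  have h3 := congrArg (fun e => (Ext.mk₀ (fmap i)).comp e (zero_add n)) h2
  simpa only [Ext.mk₀_comp_mk₀_assoc, ← fmap_comp, hii, fmap_id, Ext.mk₀_id_comp, Ext.comp_zero] using h3

/-- classes killed by a finite separable extension are killed by the degree -/
theorem vd_of_coprime (hℓ : ℓ.Prime) (hL : ¬ ℓ ∣ Module.finrank E L) {d : ℕ} (h : Vd ℓ L d) : Vd ℓ E d := by
  intro F a hF q hq
  haveI : (EtCoh.pull (H9Transfer.specMap E L)).Additive :=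
    (EtCoh.pullPushAdj (H9Transfer.specMap E L)).left_adjoint_additive
  refine subsingleton_of_forall_eq 0 fun x => ?_
  have h3 : Module.finrank E L • x = 0 :=
    H9Transfer.nsmul_finrank_eq_zero (K := E) (L := L) x ((h _ a (killed_map _ F _ hF) q hq).elim _ _)
  have h4 : ℓ ^ a • x = 0 := by rw [← H9Transfer.comp_nsmul_id, hF, Ext.mk₀_zero, Ext.comp_zero]
  have h5 := Nat.dvd_gcd (addOrderOf_dvd_of_nsmul_eq_zero h4) (addOrderOf_dvd_of_nsmul_eq_zero h3)
  rw [((hℓ.coprime_iff_not_dvd.2 hL).pow_left a).gcd_eq_one, Nat.dvd_one] at h5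
  exact AddMonoid.addOrderOf_eq_one_iff.1 h5

/-- to bound the cohomological dimension it is enough to exclude `ℓ`-torsion classes -/
theorem vd_of_noTorsion {d : ℕ}
    (h : ∀ (F : EtCoh.Ab (Spec (CommRingCat.of E))) (a : ℕ), (ℓ ^ a) • 𝟙 F = 0 → ∀ q, d < q →
      ∀ x : Ext (free (EtCoh.top (Spec (CommRingCat.of E)))) F q, ℓ • x = 0 → x = 0) : Vd ℓ E d := by
  intro F a hF q hq
  rw [subsingleton_H_iff]
  refine subsingleton_of_forall_eq 0 fun x => ?_
  have hx : ∀ (b : ℕ) (y : Ext (free (EtCoh.top (Spec (CommRingCat.of E)))) F q), ℓ ^ b • y = 0 → y = 0 := by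
    intro b
    induction b with
    | zero => intro y hy; simpa using hy
    | succ b ih => exact fun y hy => ih y (h F a hF q hq _ (by rw [smul_smul, ← pow_succ']; exact hy))
  refine hx a x ?_
  rw [← Ext.comp_mk₀_id x, ← show x.comp (Ext.mk₀ ((ℓ ^ a) • 𝟙 F)) (add_zero q) =
    (ℓ ^ a) • x.comp (Ext.mk₀ (𝟙 F)) (add_zero q) by
      rw [show Ext.mk₀ ((ℓ ^ a) • 𝟙 F) = (ℓ ^ a) • Ext.mk₀ (𝟙 F) from
        map_nsmul (Ext.addEquiv₀.symm : (F ⟶ F) ≃+ _) _ _]
      exact map_nsmul ((Ext.bilinearComp _ F F q 0 q (add_zero _)) x) _ _, hF, Ext.mk₀_zero, Ext.comp_zero]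

variable [IsGalois E L]

/-- the covering of the base by a cyclic extension -/
theorem isCyclicCover_base [Etale (extHom (base E) L)] (σ : Gal(L/E)) (hσ : ∀ t, t ∈ Subgroup.zpowers σ) :
    IsCyclicCover (W := EtCoh.top (Spec (CommRingCat.of E))) (covMap (base E)) (autMap (base E) σ) (orderOf σ) :=
  isCyclicCover (base E) σ hσ

/-- Descent along a cyclic extension of degree `ℓ` embedded in one of degree `ℓ²`. -/
theorem vd_liftable (hℓ : ℓ.Prime) (M : Type u) [Field M] [Algebra E M] [Algebra L M] [IsScalarTower E L M]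
    [FiniteDimensional E M] [IsGalois E M] [IsCyclic Gal(M/E)] (hL : Module.finrank E L = ℓ)
    (hM : Module.finrank E M = ℓ * ℓ) {d : ℕ} (h : Vd ℓ L d) : Vd ℓ E d := by
  haveI : Etale (extHom (base E) L) := etale_extHom _
  haveI : Etale (extHom (base E) M) := etale_extHom _
  haveI : Algebra.IsAlgebraic L M := Algebra.IsAlgebraic.tower_top (K := E) L
  have hM' : Vd ℓ M d := vd_of_isAlgebraic h
  obtain ⟨σ, hσ⟩ := IsCyclic.exists_generator (α := Gal(M/E))
  let τ : Gal(L/E) := AlgEquiv.restrictNormalHom L σ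
  have hτ : ∀ t, t ∈ Subgroup.zpowers τ := fun t => by
    obtain ⟨s, rfl⟩ := AlgEquiv.restrictNormalHom_surjective (F := E) (K₁ := L) M t
    obtain ⟨k, rfl⟩ := Subgroup.mem_zpowers_iff.1 (hσ s)
    exact Subgroup.mem_zpowers_iff.2 ⟨k, (map_zpow _ σ k).symm⟩
  have hoσ : orderOf σ = ℓ * ℓ := by
    rw [orderOf_eq_card_of_forall_mem_zpowers hσ, IsGalois.card_aut_eq_finrank, hM]
  have hoτ : orderOf τ = ℓ := by
    rw [orderOf_eq_card_of_forall_mem_zpowers hτ, IsGalois.card_aut_eq_finrank, hL]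
  let π : pt (extHom (base E) M) ⟶ pt (extHom (base E) L) := ptMap (algebraMap L M) (by
    show Spec.map _ ≫ Spec.map (CommRingCat.ofHom (algebraMap E L)) ≫ base E = _
    rw [← Category.assoc, ← Spec.map_comp, ← CommRingCat.ofHom_comp, ← IsScalarTower.algebraMap_eq])
  have hg : π ≫ covMap (base E) = covMap (L := M) (base E) := MorphismProperty.Over.Hom.ext (by
    show Spec.map _ ≫ Spec.map (CommRingCat.ofHom (algebraMap E L)) = _
    rw [← Spec.map_comp, ← CommRingCat.ofHom_comp, ← IsScalarTower.algebraMap_eq]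
    rfl)
  have hcomm : autMap (base E) σ ≫ π = π ≫ autMap (base E) τ := MorphismProperty.Over.Hom.ext (by
    show Spec.map _ ≫ Spec.map (CommRingCat.ofHom (algebraMap L M)) = Spec.map _ ≫ Spec.map _
    rw [← Spec.map_comp, ← Spec.map_comp, ← CommRingCat.ofHom_comp, ← CommRingCat.ofHom_comp]
    exact congrArg (fun f => Spec.map (CommRingCat.ofHom f))
      (RingHom.ext fun y => (AlgEquiv.restrictNormal_commutes σ L y).symm))
  refine vd_of_noTorsion fun F a hF q hq x hx => ?_
  refine eq_zero_of_perComp (isCyclicCover_base τ hτ) rfl x (subsingleton_ext_pt h F hF hq)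
    (subsingleton_ext_pt h F hF (by omega)) ?_
  rw [perComp_refine (isCyclicCover_base τ hτ) (isCyclicCover_base σ hσ) π hg hcomm ℓ (by rw [hoσ, hoτ]) rfl x,
    hx, map_zero]

end Groth.Agent.SerreCd
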