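import Groth.Agent.CurveCd.CyclicStep

/-!
# The periodicity class of a cyclic étale covering
-/

set_option autoImplicit false
set_option linter.style.haveILetI false
set_option linter.unusedSectionVars false
set_option backward.isDefEq.respectTransparency false
set_option backward.isDefEq.respectTransparency.types false

universe u

open CategoryTheory CategoryTheory.Limits AlgebraicGeometry Opposite Abelian

noncomputable section

namespace Groth.Agent.SerreCd

open CurveCd

variable {X : Scheme.{u}} {V W : X.Etale} {g : V ⟶ W} {σ : V ⟶ V} {l : ℕ} (hc : IsCyclicCover g σ l)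

/-- the sequence of the transfer -/
abbrev seqT : ShortComplex (EtCoh.Ab X) := ShortComplex.mk hc.tr (cokernel.π hc.tr) (cokernel.condition _)

theorem shortExact_seqT : (seqT hc).ShortExact :=
  haveI := hc.mono_tr
  { exact := ShortComplex.exact_of_g_is_cokernel _ (cokernelIsCokernel _)
    mono_f := inferInstanceAs (Mono hc.tr)
    epi_g := inferInstanceAs (Epi (cokernel.π hc.tr)) }

/-- the difference map on the cokernel of the transfer -/
def diff : cokernel hc.tr ⟶ free V := cokernel.desc _ (fmap σ - 𝟙 (free V)) hc.tr_comp_sub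

theorem π_diff : cokernel.π hc.tr ≫ diff hc = fmap σ - 𝟙 (free V) := cokernel.π_desc _ _ _

theorem diff_fmap : diff hc ≫ fmap g = 0 := by
  rw [← cancel_epi (cokernel.π hc.tr), ← Category.assoc, π_diff, hc.fmap_sub_comp, comp_zero]

/-- the sequence of the covering -/
abbrev seqC : ShortComplex (EtCoh.Ab X) := ShortComplex.mk (diff hc) (fmap g) (diff_fmap hc)

theorem shortExact_seqC : (seqC hc).ShortExact := by
  haveI := epi_fmap g hc.surj
  let χ : ShortComplex.mk (fmap σ - 𝟙 (free V)) (fmap g) hc.fmap_sub_comp ⟶ seqC hc :=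
    { τ₁ := cokernel.π hc.tr, τ₂ := 𝟙 _, τ₃ := 𝟙 _,
      comm₁₂ := (π_diff hc).trans (Category.comp_id _).symm,
      comm₂₃ := (Category.id_comp _).trans (Category.comp_id _).symm }
  haveI : Epi χ.τ₁ := inferInstanceAs (Epi (cokernel.π hc.tr))
  haveI : IsIso χ.τ₂ := inferInstanceAs (IsIso (𝟙 _))
  haveI : Mono χ.τ₃ := inferInstanceAs (Mono (𝟙 _))
  exact
    { exact := (ShortComplex.exact_iff_of_epi_of_isIso_of_mono χ).1 hc.exact_right
      mono_f := hc.exact_left.mono_cokernelDesc
      epi_g := inferInstanceAs (Epi (fmap g)) }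

/-- the periodicity class -/
def per : Ext (free W) (free W) 2 :=
  (shortExact_seqC hc).extClass.comp (shortExact_seqT hc).extClass (show 1 + 1 = 2 from rfl)

/-- composition with the periodicity class -/
def perComp {F : EtCoh.Ab X} {q p : ℕ} (h : 2 + q = p) : Ext (free W) F q →+ Ext (free W) F p :=
  AddMonoidHom.mk' (fun x => (per hc).comp x h) fun a b => Ext.comp_add _ a b h

theorem perComp_eq {F : EtCoh.Ab X} {q p : ℕ} (h : 2 + q = p) (x : Ext (free W) F q) :
    perComp hc h x = (shortExact_seqC hc).extClass.comp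
      ((shortExact_seqT hc).extClass.comp x (rfl : 1 + q = 1 + q)) (show 1 + (1 + q) = p by omega) :=
  Ext.comp_assoc _ _ _ _ _ (by omega)

/-- periodicity: composition with the class is injective above the vanishing range of the covering -/
theorem eq_zero_of_perComp {F : EtCoh.Ab X} {q p : ℕ} (h : 2 + q = p) (x : Ext (free W) F q)
    (hV : Subsingleton (Ext (free V) F q)) (hV' : Subsingleton (Ext (free V) F (1 + q)))
    (hx : perComp hc h x = 0) : x = 0 := by
  rw [perComp_eq] at hx
  obtain ⟨z, hz⟩ := Ext.contravariant_sequence_exact₁ (shortExact_seqC hc) F _ _ hx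
  rw [@Subsingleton.elim _ hV' z 0, Ext.comp_zero] at hz
  obtain ⟨z', rfl⟩ := Ext.contravariant_sequence_exact₁ (shortExact_seqT hc) F _ _ hz.symm
  rw [@Subsingleton.elim _ hV z' 0, Ext.comp_zero]

variable {V' : X.Etale} {g' : V' ⟶ W} {σ' : V' ⟶ V'} {l' : ℕ} (hc' : IsCyclicCover g' σ' l') (π : V' ⟶ V)

theorem sum_iterate_mul {α M : Type*} [AddCommMonoid M] (f : α → α) (b : α → M) {l : ℕ}
    (hf : ∀ w, f^[l] w = w) (w : α) (m : ℕ) :
    ∑ i ∈ Finset.range (m * l), b (f^[i] w) = m • ∑ i ∈ Finset.range l, b (f^[i] w) := by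
  induction m with
  | zero => simp
  | succ m ih =>
    rw [Nat.succ_mul, Finset.sum_range_add, ih, succ_nsmul]
    refine congrArg₂ (· + ·) rfl (Finset.sum_congr rfl fun i _ => congrArg b ?_)
    rw [add_comm, Function.iterate_add_apply, mul_comm, Function.iterate_mul]
    exact congrArg _ (Function.iterate_fixed (hf w) m)

theorem mk₀_nsmul_comp {A F : EtCoh.Ab X} {q : ℕ} (m : ℕ) (x : Ext A F q) :
    (Ext.mk₀ (m • 𝟙 A)).comp x (zero_add q) = m • x := by
  induction m with
  | zero => simp
  | succ k ih => simp [succ_nsmul, Ext.mk₀_add, Ext.add_comp, ih]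

theorem tr_fmap (hg : π ≫ g = g') (hσ : σ' ≫ π = π ≫ σ) (m : ℕ) (hl : l' = m * l) :
    hc'.tr ≫ fmap π = m • hc.tr := by
  subst hg
  haveI := epi_fmap (π ≫ g) hc'.surj
  rw [← cancel_epi (fmap (π ≫ g)), ← Category.assoc, hc'.fmap_tr, fmap_comp, Category.assoc,
    Preadditive.comp_nsmul, hc.fmap_tr]
  refine hom_ext_points _ _ fun Ω _ _ ξ z => ?_
  haveI := stalk_additive ξ
  have hcm : ∀ i, fib π ξ ((fib σ' ξ)^[i] z) = (fib σ ξ)^[i] (fib π ξ z) := fun i => by
    induction i with
    | zero => rfl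
    | succ i hi =>
      rw [Function.iterate_succ_apply', Function.iterate_succ_apply', ← hi]
      generalize (fib σ' ξ)^[i] z = t
      show (Scheme.pointSmallEtale ξ).fiber.map π ((Scheme.pointSmallEtale ξ).fiber.map σ' t) =
        (Scheme.pointSmallEtale ξ).fiber.map σ ((Scheme.pointSmallEtale ξ).fiber.map π t)
      exact (IsCyclicCover.fib_iterate.fiber_map_comp' ξ σ' π t).symm.trans
        ((congrArg (fun r => (Scheme.pointSmallEtale ξ).fiber.map r t) hσ).trans
          (IsCyclicCover.fib_iterate.fiber_map_comp' ξ π σ t))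
  rw [Functor.map_comp, Functor.map_comp, Functor.map_nsmul]
  show ((EtCoh.stalk ξ).map (fmap π)).hom (((EtCoh.stalk ξ).map (sumPow σ' l')).hom (br ξ z)) =
    (m • (EtCoh.stalk ξ).map (sumPow σ l)).hom (((EtCoh.stalk ξ).map (fmap π)).hom (br ξ z))
  rw [fmap_br, sumPow_br, map_sum, AddCommGrpCat.hom_nsmul, AddMonoidHom.nsmul_apply, sumPow_br]
  refine (Finset.sum_congr rfl fun i _ => (fmap_br ξ π _).trans (congrArg (br ξ) (hcm i))).trans ?_
  subst hl
  exact sum_iterate_mul _ _ (hc.period Ω ξ) _ m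

/-- the map of cokernels of transfers -/
def cokMap (hg : π ≫ g = g') (hσ : σ' ≫ π = π ≫ σ) (m : ℕ) (hl : l' = m * l) :
    cokernel hc'.tr ⟶ cokernel hc.tr :=
  cokernel.desc _ (fmap π ≫ cokernel.π hc.tr) (by
    rw [← Category.assoc, tr_fmap hc hc' π hg hσ m hl, Preadditive.nsmul_comp, cokernel.condition, smul_zero])

/-- the periodicity class is divisible by the index of a cyclic refinement -/
theorem perComp_refine (hg : π ≫ g = g') (hσ : σ' ≫ π = π ≫ σ) (m : ℕ) (hl : l' = m * l)
    {F : EtCoh.Ab X} {q p : ℕ} (h : 2 + q = p) (x : Ext (free W) F q) :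
    perComp hc h x = perComp hc' h (m • x) := by
  let c := cokMap hc hc' π hg hσ m hl
  have hπc : cokernel.π hc'.tr ≫ c = fmap π ≫ cokernel.π hc.tr := cokernel.π_desc _ _ _
  let φC : seqC hc' ⟶ seqC hc :=
    { τ₁ := c, τ₂ := fmap π, τ₃ := 𝟙 _
      comm₁₂ := by
        show c ≫ diff hc = diff hc' ≫ fmap π
        rw [← cancel_epi (cokernel.π hc'.tr), ← Category.assoc, hπc, Category.assoc, π_diff, ← Category.assoc,
          π_diff, Preadditive.comp_sub, Preadditive.sub_comp, Category.id_comp, Category.comp_id, ← fmap_comp,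
          ← fmap_comp, hσ]
      comm₂₃ := by
        show fmap π ≫ fmap g = fmap g' ≫ 𝟙 _
        rw [Category.comp_id, ← fmap_comp, hg] }
  let φT : seqT hc' ⟶ seqT hc :=
    { τ₁ := m • 𝟙 _, τ₂ := fmap π, τ₃ := c
      comm₁₂ := by
        show (m • 𝟙 (free W)) ≫ hc.tr = hc'.tr ≫ fmap π
        rw [tr_fmap hc hc' π hg hσ m hl, Preadditive.nsmul_comp, Category.id_comp]
      comm₂₃ := hπc.symm }
  have hC := ShortComplex.ShortExact.extClass_naturality (shortExact_seqC hc') (shortExact_seqC hc) φC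
  have hT := ShortComplex.ShortExact.extClass_naturality (shortExact_seqT hc') (shortExact_seqT hc) φT
  change _ = (Ext.mk₀ (𝟙 _)).comp _ _ at hC
  rw [Ext.mk₀_id_comp] at hC
  change (shortExact_seqT hc').extClass.comp (Ext.mk₀ (m • 𝟙 (free W))) _ = (Ext.mk₀ c).comp _ _ at hT
  change (shortExact_seqC hc').extClass.comp (Ext.mk₀ c) _ = _ at hC
  rw [perComp_eq, perComp_eq, ← hC, ← mk₀_nsmul_comp m x, Ext.comp_assoc_of_second_deg_zero]
  congr 1
  rw [← Ext.comp_assoc (Ext.mk₀ c) _ x (zero_add 1) rfl (by omega), ← hT, Ext.comp_assoc_of_second_deg_zero]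

end Groth.Agent.SerreCd
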