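import Mathlib.RingTheory.AdjoinRoot
import Mathlib.Algebra.Ring.Semireal.Defs
import Mathlib.Algebra.Polynomial.Degree.Lemmas
import Mathlib.Tactic

/-!
# Odd degree extensions of semireal fields
-/

set_option autoImplicit false

universe u

open Polynomial

namespace Groth.Agent.SerreCd

theorem exists_odd_irreducible_factor {F : Type u} [Field F] : ∀ (n : ℕ) (g : F[X]), g.natDegree = n → Odd n →
    ∃ r : F[X], Irreducible r ∧ r ∣ g ∧ Odd r.natDegree := by
  intro n
  induction n using Nat.strong_induction_on with
  | _ n ih =>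
    intro g hg hodd
    have hg0 : g ≠ 0 := fun h => by simp [h] at hg; subst hg; simp at hodd
    have hgu : ¬ IsUnit g := fun h => by
      rw [natDegree_eq_zero_of_isUnit h] at hg; subst hg; simp at hodd
    obtain ⟨r, hr, hrg⟩ := WfDvdMonoid.exists_irreducible_factor hgu hg0
    rcases Nat.even_or_odd r.natDegree with he | ho
    · obtain ⟨c, rfl⟩ := hrg
      have hc0 : c ≠ 0 := right_ne_zero_of_mul hg0
      rw [natDegree_mul hr.ne_zero hc0] at hg
      have hpos := hr.natDegree_pos
      have hco : Odd c.natDegree := by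
        rcases Nat.even_or_odd c.natDegree with h | h
        · exact absurd (hg ▸ he.add h) (Nat.not_even_iff_odd.2 hodd)
        · exact h
      obtain ⟨r', h1, h2, h3⟩ := ih c.natDegree (by omega) c rfl hco
      exact ⟨r', h1, h2.trans (dvd_mul_left _ _), h3⟩
    · exact ⟨r, hr, hrg, ho⟩

theorem exists_fun_of_isSumSq {R : Type u} [CommRing R] {a : R} (h : IsSumSq a) :
    ∃ (n : ℕ) (f : Fin n → R), (∑ j, f j * f j) = a := by
  induction h with
  | zero => exact ⟨0, Fin.elim0, by simp⟩
  | sq_add b _ ih =>
    obtain ⟨n, f, hf⟩ := ih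
    exact ⟨n + 1, Fin.cons b f, by rw [Fin.sum_univ_succ, Fin.cons_zero]; simp [hf]⟩

theorem one_add_sum_sq_ne_zero {F : Type u} [Field F] [IsSemireal F] {ι : Type*} (s : Finset ι) (f : ι → F) :
    1 + ∑ i ∈ s, f i * f i ≠ 0 :=
  IsSemireal.one_add_ne_zero (IsSumSq.sum_mul_self s f)

theorem sum_sq_eq_zero {F : Type u} [Field F] [IsSemireal F] {ι : Type*} [Fintype ι] (f : ι → F)
    (h : (∑ i, f i * f i) = 0) (i : ι) : f i = 0 := by
  classical
  by_contra hi
  rw [← Finset.add_sum_erase _ _ (Finset.mem_univ i)] at h
  refine one_add_sum_sq_ne_zero (Finset.univ.erase i) (fun j => f j / f i) ?_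
  simp_rw [div_mul_div_comm]
  rw [← Finset.sum_div, add_comm, div_add_one (mul_ne_zero hi hi), add_comm, h, zero_div]

/-- **Springer**: `-1` stays off the sums of squares in an extension of odd degree -/
theorem not_isSumSq_adjoinRoot {F : Type u} [Field F] [IsSemireal F] : ∀ (n : ℕ) (p : F[X]), p.natDegree = n →
    Irreducible p → Odd n → ¬ IsSumSq (-1 : AdjoinRoot p) := by
  intro n
  induction n using Nat.strong_induction_on with
  | _ n ih =>
    intro p hp hirr hodd hsum
    obtain ⟨m, f, hf⟩ := exists_fun_of_isSumSq hsum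
    choose g hg using fun j => AdjoinRoot.mk_surjective (f j)
    let r : Fin m → F[X] := fun j => g j % p
    have hr : ∀ j, AdjoinRoot.mk p (r j) = f j := fun j => by
      rw [← hg j, AdjoinRoot.mk_eq_mk, ← dvd_neg, neg_sub]
      exact ⟨g j / p, by show g j - g j % p = _; rw [EuclideanDomain.mod_eq_sub_mul_div]; ring⟩
    have hrd : ∀ j, (r j).natDegree < n := fun j => by
      by_cases h0 : r j = 0
      · rw [h0, natDegree_zero]; exact hodd.pos
      · exact hp ▸ natDegree_lt_natDegree h0 (EuclideanDomain.mod_lt (g j) hirr.ne_zero)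
    let q : F[X] := 1 + ∑ j, r j * r j
    have hpq : p ∣ q := by
      rw [← AdjoinRoot.mk_eq_zero]
      simp only [q, map_add, map_one, map_sum, map_mul, hr]
      rw [hf, add_neg_cancel]
    let e := Finset.univ.sup fun j => (r j).natDegree
    have hcoeff : q.coeff (2 * e) ≠ 0 := by
      have hsum' : (∑ j, r j * r j).coeff (2 * e) = ∑ j, (r j).coeff e * (r j).coeff e := by
        rw [finsetSum_coeff]
        refine Finset.sum_congr rfl fun j _ => ?_
        rw [two_mul, coeff_mul_add_eq_of_natDegree_le (Finset.le_sup (f := fun j => (r j).natDegree) (Finset.mem_univ j))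
          (Finset.le_sup (f := fun j => (r j).natDegree) (Finset.mem_univ j))]
      show (1 + ∑ j, r j * r j).coeff (2 * e) ≠ 0
      rw [coeff_add, hsum', coeff_one]
      split_ifs with he
      · exact one_add_sum_sq_ne_zero _ _
      · rw [zero_add]
        intro h0
        have hz := sum_sq_eq_zero _ h0
        have hm : (Finset.univ : Finset (Fin m)).Nonempty := by
          by_contra hne
          exact he (by simp [e, Finset.not_nonempty_iff_eq_empty.1 hne])
        obtain ⟨j, -, hj⟩ := Finset.exists_mem_eq_sup Finset.univ hm fun j => (r j).natDegree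
        have hc : (r j).leadingCoeff = 0 := by
          have := hz j
          rwa [show e = (r j).natDegree from hj] at this
        have : e = 0 := by rw [show e = (r j).natDegree from hj, leadingCoeff_eq_zero.1 hc, natDegree_zero]
        exact he (by rw [this])
    have hqd : q.natDegree = 2 * e := by
      refine natDegree_eq_of_le_of_coeff_ne_zero ?_ hcoeff
      refine (natDegree_add_le _ _).trans (max_le (by simp) (natDegree_sum_le_of_forall_le _ _ fun j _ => ?_))
      refine natDegree_mul_le.trans ?_
      have := Finset.le_sup (f := fun j => (r j).natDegree) (Finset.mem_univ j)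
      show _ ≤ 2 * e
      omega
    have hq0 : q ≠ 0 := fun h => hcoeff (by rw [h, coeff_zero])
    have he : e < n := (Finset.sup_lt_iff (hodd.pos)).2 fun j _ => hrd j
    obtain ⟨c, hc⟩ := hpq
    have hc0 : c ≠ 0 := fun h => hq0 (by rw [hc, h, mul_zero])
    rw [hc, natDegree_mul hirr.ne_zero hc0, hp] at hqd
    have hco : Odd c.natDegree := by
      obtain ⟨a, ha⟩ := hodd
      exact ⟨e - a - 1, by omega⟩
    obtain ⟨s, hs, hsc, hso⟩ := exists_odd_irreducible_factor _ c rfl hco
    have hsd : s.natDegree ≤ c.natDegree := natDegree_le_of_dvd hsc hc0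
    haveI := Fact.mk hs
    refine ih s.natDegree (by omega) s rfl hs hso ?_
    have h0 : AdjoinRoot.mk s q = 0 := AdjoinRoot.mk_eq_zero.2 (hc ▸ hsc.trans (dvd_mul_left _ _))
    simp only [q, map_add, map_one, map_sum, map_mul] at h0
    rw [show (-1 : AdjoinRoot s) = ∑ j, AdjoinRoot.mk s (r j) * AdjoinRoot.mk s (r j) by linear_combination -h0]
    exact IsSumSq.sum_mul_self _ _

end Groth.Agent.SerreCd
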